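import Cfsg.Agent.OddHalf.D9.ExTrick

-- merged: Cfsg.Agent.OddHalf.D9.M12Kill
section

/-!
# D9, row `2.M12`: the kill from facts on `K`

`Data z K`: facts on `z ∈ Z(K)`, `K` normal in `C_G(z)`, satisfied if `K / ⟨z⟩ = M12`, `|Z(K)| = 2` and
`C_G(z) / (K C_G(K))` has order at most 2, `C_{C(z)}(K)` cyclic 2-group. Then `G` is not simple.
-/

set_option autoImplicit false

namespace Cfsg.Agent.OddHalf.D9.M12Kill

open Subgroup Cfsg.Agent.OddHalf.D9.ExTrick

variable {G : Type*} [Group G]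

/-- an involution of `K` different from `z` -/
structure Inv (z : G) (K : Subgroup G) (f : G) : Prop where
  mem : f ∈ K
  sq : f * f = 1
  ne : f ≠ 1
  nez : f ≠ z

/-- `f` is a square in `K` -/
def Sq (K : Subgroup G) (f : G) : Prop := ∃ s ∈ K, s * s = f

/-- the group generated by the elements of order 3 of `C(z) ∩ C(f)` -/
def Y3 (z f : G) : Subgroup G := closure {y | y * z = z * y ∧ y * f = f * y ∧ y ^ 3 = 1}

/-- the group generated by the involutions of `C_K(f)` -/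
def W2 (K : Subgroup G) (f : G) : Subgroup G := closure {w | w ∈ K ∧ w * f = f * w ∧ w * w = 1}

/-- The facts on `K`. -/
structure Data (z : G) (K : Subgroup G) : Prop where
  zz : z * z = 1
  z1 : z ≠ 1
  zK : z ∈ K
  Kz : ∀ k ∈ K, k * z = z * k
  /-- `K` is normal in `C(z)` -/
  norm : ∀ h, h * z = z * h → ∀ k ∈ K, h * k * h⁻¹ ∈ K
  /-- perfect subgroups of `C(z)` lie in `K` -/
  perf : ∀ Y : Subgroup G, Perf Y → (∀ y ∈ Y, y * z = z * y) → Y ≤ K
  /-- elements of order 3 of `C(z)` lie in `K` -/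
  three : ∀ y, y * z = z * y → y ^ 3 = 1 → y ∈ K
  /-- an involution of `C(z)` outside `K` centralises a perfect subgroup `≠ 1` of `K` -/
  out_perf : ∀ e, e * e = 1 → e * z = z * e → e ∉ K → ∃ Y : Subgroup G, Perf Y ∧ Y ≤ K ∧ (∀ y ∈ Y, y * e = e * y) ∧
    ∃ x ∈ Y, x ≠ 1 ∧ x * x = 1
  /-- ... and is conjugate to `ex` for every involution `x` of `C_K(e)` -/
  out_conj : ∀ e, e * e = 1 → e * z = z * e → e ∉ K → ∀ x ∈ K, x * x = 1 → x * e = e * x → IsConj e (e * x)
  /-- (A) -/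
  conj : ∀ f w, Inv z K f → Inv z K w → ∃ k ∈ K, k * f * k⁻¹ = w ∨ k * (f * z) * k⁻¹ = w
  /-- (C) -/
  sq_or : ∀ f, Inv z K f → Sq K f ∨ Sq K (f * z)
  sq_not : ∀ f, Inv z K f → Sq K f → ¬ Sq K (f * z)
  y3 : ∀ f, Inv z K f → Sq K f → (∃ s ∈ Y3 z f, s * s = z) ∧ ∃ s ∈ Y3 z f, s * s = f
  /-- (D) -/
  four : ∀ f, Inv z K f → Sq K f → ∃ x ∈ W2 K f, x ^ 4 = f
  not_four : ∀ x ∈ K, x ^ 4 ≠ z
  /-- (G) -/
  solv : ∀ f, Inv z K f → ∀ Y : Subgroup G, Perf Y → Y ≤ K → (∀ y ∈ Y, y * f = f * y) → ∀ y ∈ Y, y = 1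

namespace Data

variable {z : G} {K : Subgroup G}

theorem invz (D : Data z K) {f : G} (hf : Inv z K f) : Inv z K (f * z) where
  mem := K.mul_mem hf.mem D.zK
  sq := by
    have := D.Kz f hf.mem
    calc f * z * (f * z) = f * (z * f) * z := by group
      _ = f * (f * z) * z := by rw [this]
      _ = (f * f) * (z * z) := by group
      _ = 1 := by rw [hf.sq, D.zz, one_mul]
  ne := by
    intro h
    apply hf.nez
    rw [eq_inv_of_mul_eq_one_left h]
    exact inv_eq_of_mul_eq_one_right D.zz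
  nez := by
    intro h
    exact hf.ne (mul_eq_right.mp h)

theorem zzf (D : Data z K) (f : G) : f * z * z = f := by rw [mul_assoc, D.zz, mul_one]

theorem Y3z (D : Data z K) {f : G} (hf : Inv z K f) : Y3 z (f * z) = Y3 z f := by
  unfold Y3
  congr 1
  ext y
  constructor
  · rintro ⟨h1, h2, h3⟩
    refine ⟨h1, ?_, h3⟩
    have : y * f * z = f * y * z := by
      calc y * f * z = y * (f * z) := by group
        _ = f * z * y := h2
        _ = f * (z * y) := by group
        _ = f * (y * z) := by rw [h1]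
        _ = f * y * z := by group
    exact mul_right_cancel this
  · rintro ⟨h1, h2, h3⟩
    refine ⟨h1, ?_, h3⟩
    calc y * (f * z) = y * f * z := by group
      _ = f * (y * z) := by rw [h2]; group
      _ = f * z * y := by rw [h1]; group

theorem Y3_le (D : Data z K) (f : G) : Y3 z f ≤ K := by
  unfold Y3
  rw [closure_le]
  rintro y ⟨h1, -, h3⟩
  exact D.three y h1 h3

/-- a conjugate of `z` in `K`: an element normalising `⟨z, f⟩` -/
theorem exists_n (D : Data z K) {g : G} (hf : Inv z K (g * z * g⁻¹)) :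
    ∃ n, n * z * n⁻¹ = g * z * g⁻¹ ∧ (n * (g * z * g⁻¹) * n⁻¹ = z ∨
      n * (g * z * g⁻¹) * n⁻¹ = g * z * g⁻¹ * z) := by
  set f := g * z * g⁻¹ with hfdef
  have hcomm : f * z = z * f := D.Kz f hf.mem
  set f' := g⁻¹ * z * g with hf'def
  have hgf' : g * f' * g⁻¹ = z := by rw [hf'def]; group
  have hf'z : f' * z = z * f' := by
    calc f' * z = g⁻¹ * (z * (g * z * g⁻¹)) * g := by rw [hf'def]; group
      _ = g⁻¹ * (g * z * g⁻¹ * z) * g := by rw [← hfdef, hcomm]
      _ = z * f' := by rw [hf'def]; group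
  have hf'2 : f' * f' = 1 := by
    calc f' * f' = g⁻¹ * (z * z) * g := by rw [hf'def]; group
      _ = 1 := by rw [D.zz]; group
  have hf'1 : f' ≠ 1 := by
    intro h
    apply D.z1
    rw [← hgf', h]; group
  have hf'ne : f' ≠ z := by
    intro h
    apply hf.nez
    rw [hfdef]
    calc g * z * g⁻¹ = g * f' * g⁻¹ := by rw [h]
      _ = z := hgf'
  have hf'K : f' ∈ K := by
    by_contra hn
    obtain ⟨Y, hY, hYK, hYe, x, hx, hx1, -⟩ := D.out_perf f' hf'2 hf'z hn
    have h1 : Y.map (MulAut.conj g).toMonoidHom ≤ K := by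
      refine D.perf _ (perf_conj hY g) ?_
      rintro _ ⟨y, hy, rfl⟩
      have := hYe y hy
      show g * y * g⁻¹ * z = z * (g * y * g⁻¹)
      calc g * y * g⁻¹ * z = g * y * g⁻¹ * (g * f' * g⁻¹) := by rw [hgf']
        _ = g * (y * f') * g⁻¹ := by group
        _ = g * (f' * y) * g⁻¹ := by rw [this]
        _ = (g * f' * g⁻¹) * (g * y * g⁻¹) := by group
        _ = z * (g * y * g⁻¹) := by rw [hgf']
    have h2 := D.solv f hf _ (perf_conj hY g) h1 (by
      rintro _ ⟨y, hy, rfl⟩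
      have := D.Kz y (hYK hy)
      show g * y * g⁻¹ * f = f * (g * y * g⁻¹)
      calc g * y * g⁻¹ * f = g * (y * z) * g⁻¹ := by rw [hfdef]; group
        _ = g * (z * y) * g⁻¹ := by rw [this]
        _ = f * (g * y * g⁻¹) := by rw [hfdef]; group) (g * x * g⁻¹) ⟨x, hx, rfl⟩
    exact hx1 (conj_eq_one_iff.mp h2)
  have hf'I : Inv z K f' := ⟨hf'K, hf'2, hf'1, hf'ne⟩
  obtain ⟨k, hk, h | h⟩ := D.conj f f' hf hf'I
  · refine ⟨g * k, ?_, Or.inl ?_⟩
    · have := D.Kz k hk
      calc g * k * z * (g * k)⁻¹ = g * (k * z) * k⁻¹ * g⁻¹ := by group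
        _ = g * (z * k) * k⁻¹ * g⁻¹ := by rw [this]
        _ = f := by rw [hfdef]; group
    · calc g * k * f * (g * k)⁻¹ = g * (k * f * k⁻¹) * g⁻¹ := by group
        _ = z := by rw [h, hgf']
  · have hn : g * k * z * (g * k)⁻¹ = f := by
      have := D.Kz k hk
      calc g * k * z * (g * k)⁻¹ = g * (k * z) * k⁻¹ * g⁻¹ := by group
        _ = g * (z * k) * k⁻¹ * g⁻¹ := by rw [this]
        _ = f := by rw [hfdef]; group
    refine ⟨g * k, hn, Or.inr ?_⟩
    have h2 : g * k * (f * z) * (g * k)⁻¹ = z := by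
      calc g * k * (f * z) * (g * k)⁻¹ = g * (k * (f * z) * k⁻¹) * g⁻¹ := by group
        _ = z := by rw [h, hgf']
    have h3 : g * k * f * (g * k)⁻¹ * f = z := by
      calc g * k * f * (g * k)⁻¹ * f = g * k * f * (g * k)⁻¹ * (g * k * z * (g * k)⁻¹) := by rw [hn]
        _ = g * k * (f * z) * (g * k)⁻¹ := by group
        _ = z := h2
    calc g * k * f * (g * k)⁻¹ = g * k * f * (g * k)⁻¹ * (f * f) := by rw [hf.sq, mul_one]
      _ = (g * k * f * (g * k)⁻¹ * f) * f := by group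
      _ = z * f := by rw [h3]
      _ = f * z := hcomm.symm

/-- `n` maps `Y3` to itself -/
theorem map_Y3 (D : Data z K) {f n : G} (hf : Inv z K f) (hn : n * z * n⁻¹ = f)
    (hn' : n * f * n⁻¹ = z ∨ n * f * n⁻¹ = f * z) {s : G} (hs : s ∈ Y3 z f) : n * s * n⁻¹ ∈ Y3 z f := by
  have key : Y3 z f ≤ (Y3 z f).comap (MulAut.conj n).toMonoidHom := by
    conv_lhs => unfold Y3
    rw [closure_le]
    rintro y ⟨h1, h2, h3⟩
    refine subset_closure ?_
    have c1 : n * y * n⁻¹ * f = f * (n * y * n⁻¹) := by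
      calc n * y * n⁻¹ * f = n * (y * z) * n⁻¹ := by rw [← hn]; group
        _ = n * (z * y) * n⁻¹ := by rw [h1]
        _ = (n * z * n⁻¹) * (n * y * n⁻¹) := by group
        _ = f * (n * y * n⁻¹) := by rw [hn]
    have c2 : ∀ u, n * f * n⁻¹ = u → n * y * n⁻¹ * u = u * (n * y * n⁻¹) := by
      rintro u rfl
      calc n * y * n⁻¹ * (n * f * n⁻¹) = n * (y * f) * n⁻¹ := by group
        _ = n * (f * y) * n⁻¹ := by rw [h2]
        _ = (n * f * n⁻¹) * (n * y * n⁻¹) := by group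
    refine ⟨?_, c1, ?_⟩
    · show n * y * n⁻¹ * z = z * (n * y * n⁻¹)
      rcases hn' with h | h
      · exact c2 z h
      · have h4 := c2 _ h
        have h5 : f * (n * y * n⁻¹ * z) = f * (z * (n * y * n⁻¹)) := by
          calc f * (n * y * n⁻¹ * z) = f * (n * y * n⁻¹) * z := by group
            _ = n * y * n⁻¹ * f * z := by rw [c1]
            _ = n * y * n⁻¹ * (f * z) := by group
            _ = f * z * (n * y * n⁻¹) := h4
            _ = f * (z * (n * y * n⁻¹)) := by group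
        exact mul_left_cancel h5
    · show (n * y * n⁻¹) ^ 3 = 1
      rw [conj_pow, h3, mul_one, mul_inv_cancel]
  exact key hs

theorem sq_of_Y3 (D : Data z K) {f u : G} (h : ∃ s ∈ Y3 z f, s * s = u) : Sq K u := by
  obtain ⟨s, hs, h⟩ := h
  exact ⟨s, D.Y3_le f hs, h⟩

/-- a conjugate of `z` in `K` different from `z` is a square in `K`, and is swapped with `z` -/
theorem step (D : Data z K) {g : G} (hf : Inv z K (g * z * g⁻¹)) : Sq K (g * z * g⁻¹) ∧
    ∃ n, n * z * n⁻¹ = g * z * g⁻¹ ∧ n * (g * z * g⁻¹) * n⁻¹ = z := by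
  obtain ⟨n, hn, hn'⟩ := D.exists_n hf
  set f := g * z * g⁻¹ with hfdef
  have mapsq : ∀ u, (∃ s ∈ Y3 z f, s * s = u) → ∃ s ∈ Y3 z f, s * s = n * u * n⁻¹ := by
    rintro _ ⟨s, hs, rfl⟩
    exact ⟨n * s * n⁻¹, D.map_Y3 hf hn hn' hs, by group⟩
  by_cases hsq : Sq K f
  · refine ⟨hsq, n, hn, ?_⟩
    rcases hn' with h | h
    · exact h
    · exfalso
      have h1 := mapsq f (D.y3 f hf hsq).2
      rw [h] at h1
      exact D.sq_not f hf hsq (D.sq_of_Y3 h1)
  · exfalso
    have h0 := D.invz hf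
    have hsqz : Sq K (f * z) := (D.sq_or f hf).resolve_left hsq
    have h1 := (D.y3 (f * z) h0 hsqz).1
    rw [D.Y3z hf] at h1
    have h2 := mapsq z h1
    rw [hn] at h2
    exact hsq (D.sq_of_Y3 h2)

/-- `z` is not conjugate to another element of `K` -/
theorem not_conj (D : Data z K) : ∀ k ∈ K, IsConj z k → k = z := by
  intro k hk hc
  obtain ⟨g, rfl⟩ := isConj_iff.mp hc
  by_contra hne
  have hf : Inv z K (g * z * g⁻¹) := ⟨hk, by
    calc g * z * g⁻¹ * (g * z * g⁻¹) = g * (z * z) * g⁻¹ := by group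
      _ = 1 := by rw [D.zz]; group, by
    intro h
    exact D.z1 (conj_eq_one_iff.mp h), hne⟩
  obtain ⟨hsq, n, hn, hn'⟩ := D.step hf
  set f := g * z * g⁻¹ with hfdef
  have hfz : IsConj z f := isConj_iff.mpr ⟨n, hn⟩
  have hnf : n⁻¹ * f * n = z := by rw [← hn]; group
  have hzf : n⁻¹ * z * n = f := by rw [← hn']; group
  -- involutions of `C_K(f)` are mapped into `K`
  have key : ∀ w ∈ K, w * f = f * w → w * w = 1 → n * w * n⁻¹ ∈ K := by
    intro w hw hwf hww
    by_contra hout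
    have hw1 : w ≠ 1 := by
      rintro rfl
      apply hout
      rw [mul_one, mul_inv_cancel]
      exact one_mem _
    have hwz : w ≠ z := by
      rintro rfl
      apply hout
      rw [hn]
      exact hf.mem
    have hwI : Inv z K w := ⟨hw, hww, hw1, hwz⟩
    have t1 : n * w * n⁻¹ * (n * w * n⁻¹) = 1 := by
      calc n * w * n⁻¹ * (n * w * n⁻¹) = n * (w * w) * n⁻¹ := by group
        _ = 1 := by rw [hww]; group
    have t2 : n * w * n⁻¹ * z = z * (n * w * n⁻¹) := by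
      calc n * w * n⁻¹ * z = n * w * n⁻¹ * (n * f * n⁻¹) := by rw [hn']
        _ = n * (w * f) * n⁻¹ := by group
        _ = n * (f * w) * n⁻¹ := by rw [hwf]
        _ = (n * f * n⁻¹) * (n * w * n⁻¹) := by group
        _ = z * (n * w * n⁻¹) := by rw [hn']
    have t3 : f * (n * w * n⁻¹) = n * w * n⁻¹ * f := by
      have := D.Kz w hw
      calc f * (n * w * n⁻¹) = (n * z * n⁻¹) * (n * w * n⁻¹) := by rw [hn]
        _ = n * (z * w) * n⁻¹ := by group
        _ = n * (w * z) * n⁻¹ := by rw [this]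
        _ = n * w * n⁻¹ * (n * z * n⁻¹) := by group
        _ = n * w * n⁻¹ * f := by rw [hn]
    have h1 := D.out_conj _ t1 t2 hout f hf.mem hf.sq t3
    have h2 : IsConj w (w * z) := by
      have e1 : IsConj w (n * w * n⁻¹) := isConj_iff.mpr ⟨n, rfl⟩
      have e2 : IsConj (n * w * n⁻¹ * f) (w * z) := isConj_iff.mpr ⟨n⁻¹, by
        calc n⁻¹ * (n * w * n⁻¹ * f) * n⁻¹⁻¹ = w * (n⁻¹ * f * n) := by group
          _ = w * z := by rw [hnf]⟩
      exact (e1.trans h1).trans e2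
    -- one of `w, wz` is a square in `K`
    have fin : ∀ a, Inv z K a → IsConj a (a * z) → Sq K a → False := by
      intro a ha hac hsa
      have hb := D.invz ha
      have hbn : ¬ Sq K (a * z) := D.sq_not a ha hsa
      have haz : IsConj z a := by
        obtain ⟨k, hk', h | h⟩ := D.conj f a hf ha
        · exact hfz.trans (isConj_iff.mpr ⟨k, h⟩)
        · exfalso
          apply D.sq_not f hf hsq
          obtain ⟨s, hs, hs'⟩ := hsa
          refine ⟨k⁻¹ * s * k, K.mul_mem (K.mul_mem (K.inv_mem hk') hs) hk', ?_⟩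
          calc k⁻¹ * s * k * (k⁻¹ * s * k) = k⁻¹ * (s * s) * k := by group
            _ = k⁻¹ * (k * (f * z) * k⁻¹) * k := by rw [hs', h]
            _ = f * z := by group
      obtain ⟨g', hg'⟩ := isConj_iff.mp (haz.trans hac)
      rw [← hg'] at hb hbn
      exact hbn (D.step hb).1
    rcases D.sq_or w hwI with h | h
    · exact fin w hwI h2 h
    · refine fin (w * z) (D.invz hwI) ?_ h
      rw [D.zzf]
      exact h2.symm
  obtain ⟨x, hx, hx4⟩ := D.four f hf hsq
  have hle : W2 K f ≤ K.comap (MulAut.conj n).toMonoidHom := by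
    unfold W2
    rw [closure_le]
    rintro w ⟨h1, h2, h3⟩
    exact key w h1 h2 h3
  have hxn : n * x * n⁻¹ ∈ K := hle hx
  exact D.not_four _ hxn (by rw [conj_pow, hx4, hn'])

/-- **D9, row `2.M12`** from the facts. -/
theorem kill [Finite G] [IsSimpleGroup G] (hna : ¬ IsMulCommutative G) (D : Data z K) : False := by
  have hz : orderOf z = 2 := orderOf_eq_prime (by rw [sq, D.zz]) D.z1
  refine false_of_ex hna hz D.zK D.perf D.not_conj ?_
  intro e hze hez heK
  have he2 : e * e = 1 := by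
    obtain ⟨g, rfl⟩ := isConj_iff.mp hze
    calc g * z * g⁻¹ * (g * z * g⁻¹) = g * (z * z) * g⁻¹ := by group
      _ = 1 := by rw [D.zz]; group
  obtain ⟨Y, hY, hYK, hYe, x, hx, hx1, hxx⟩ := D.out_perf e he2 hez heK
  exact ⟨Y, hY, hYe, x, hx, hx1, Or.inr (hze.trans (D.out_conj e he2 hez heK x (hYK hx) hxx (hYe x hx)))⟩

end Data

end Cfsg.Agent.OddHalf.D9.M12Kill

end

-- merged: Cfsg.Agent.OddHalf.D9.M12Glue
section

/-!
# D9, row `2.M12`: from facts on the group `K` to `M12Kill.Data`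

`KFacts L c`: facts on the group `L = 2.M12`, `c` the central involution, and on its automorphisms.
-/

set_option autoImplicit false

namespace Cfsg.Agent.OddHalf.D9.M12Glue

open Subgroup Cfsg.Agent.OddHalf.D9.ExTrick Cfsg.Agent.OddHalf.D9.M12Kill
open scoped commutatorElement

/-- the inner automorphisms -/
abbrev Inn (L : Type*) [Group L] : Subgroup (MulAut L) := (MulAut.conj : L →* MulAut L).range

/-- an involution different from `c` -/
structure InvL {L : Type*} [Group L] (c f : L) : Prop where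
  sq : f * f = 1
  ne : f ≠ 1
  nec : f ≠ c

/-- The facts on `L = 2.M12`. -/
structure KFacts (L : Type*) [Group L] (c : L) : Prop where
  cc : c * c = 1
  c1 : c ≠ 1
  cen : ∀ x : L, (∀ y, x * y = y * x) ↔ x = 1 ∨ x = c
  /-- `|Out L| ≤ 2` -/
  out : ∀ φ ψ : MulAut L, φ ∉ Inn L → ψ ∉ Inn L → φ * ψ ∈ Inn L
  /-- (A) -/
  conj : ∀ f w : L, InvL c f → InvL c w → ∃ k, k * f * k⁻¹ = w ∨ k * (f * c) * k⁻¹ = w
  /-- (C): exactly one of `f`, `fc` is a square -/
  sq_or : ∀ f : L, InvL c f → (∃ s, s * s = f) ∨ ∃ s, s * s = f * c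
  sq_not : ∀ f : L, InvL c f → (∃ s, s * s = f) → ¬ ∃ s, s * s = f * c
  y3 : ∀ f : L, InvL c f → (∃ s, s * s = f) → (∃ s ∈ closure {y : L | y * f = f * y ∧ y ^ 3 = 1}, s * s = c) ∧
    ∃ s ∈ closure {y : L | y * f = f * y ∧ y ^ 3 = 1}, s * s = f
  /-- (D) -/
  four : ∀ f : L, InvL c f → (∃ s, s * s = f) → ∃ x ∈ closure {w : L | w * f = f * w ∧ w * w = 1}, x ^ 4 = f
  not_four : ∀ x : L, x ^ 4 ≠ c
  /-- (G) -/
  solv : ∀ f : L, InvL c f → ∀ Y : Subgroup L, Perf Y → (∀ y ∈ Y, y * f = f * y) → ∀ y ∈ Y, y = 1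
  /-- (B) -/
  v_conj : ∀ k m : L, k * k = c → m * m = c → ∃ g, g * k * g⁻¹ = m
  /-- (E) -/
  v_perf : ∀ k : L, k * k = c → ∃ Y : Subgroup L, Perf Y ∧ (∀ y ∈ Y, y * k = k * y) ∧ ∃ x ∈ Y, x ≠ 1 ∧ x * x = 1
  /-- (F) -/
  o_perf : ∀ α : MulAut L, α ∉ Inn L → α * α = 1 → ∃ Y : Subgroup L, Perf Y ∧ (∀ y ∈ Y, α y = y) ∧
    ∃ x ∈ Y, x ≠ 1 ∧ x * x = 1
  o_conj : ∀ α : MulAut L, α ∉ Inn L → α * α = 1 → ∀ m, α m * m = 1 → ∃ n, m = α n * n⁻¹

/-- `K` in `G`: the standard situation with `R = C_G(K)` cyclic. -/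
structure Amb {G : Type*} [Group G] (z : G) (K : Subgroup G) : Prop where
  zK : z ∈ K
  /-- `C(z)` normalises `K` -/
  norm : ∀ h, h * z = z * h → ∀ k ∈ K, h * k * h⁻¹ ∈ K
  /-- `C(K)` is a 2-group -/
  two : ∀ r : G, (∀ k ∈ K, r * k = k * r) → ∃ n : ℕ, r ^ 2 ^ n = 1
  /-- with one involution -/
  one : ∀ r : G, (∀ k ∈ K, r * k = k * r) → r * r = 1 → r = 1 ∨ r = z
  /-- and commutative -/
  comm : ∀ r s : G, (∀ k ∈ K, r * k = k * r) → (∀ k ∈ K, s * k = k * s) → r * s = s * r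

variable {G : Type*} [Group G] {z : G} {K : Subgroup G}

theorem perf_map {X Y : Type*} [Group X] [Group Y] {A : Subgroup X} (h : Perf A) (f : X →* Y) : Perf (A.map f) := by
  unfold Perf
  rw [← Subgroup.map_commutator, h]

namespace Amb

/-- conjugation by `h ∈ C(z)` on `K` -/
def act (A : Amb z K) {h : G} (hz : h * z = z * h) : MulAut K where
  toFun k := ⟨h * k * h⁻¹, A.norm h hz k k.2⟩
  invFun k := ⟨h⁻¹ * k * h, by
    have := A.norm h⁻¹ (by rw [inv_mul_eq_iff_eq_mul, ← mul_assoc, hz, mul_inv_cancel_right]) k k.2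
    rwa [inv_inv] at this⟩
  left_inv k := Subtype.ext (by show h⁻¹ * (h * k * h⁻¹) * h = (k : G); group)
  right_inv k := Subtype.ext (by show h * (h⁻¹ * k * h) * h⁻¹ = (k : G); group)
  map_mul' k l := Subtype.ext (by
    show h * (k * l) * h⁻¹ = h * k * h⁻¹ * (h * l * h⁻¹)
    group)

theorem act_apply (A : Amb z K) {h : G} (hz : h * z = z * h) (k : K) :
    ((A.act hz k : K) : G) = h * k * h⁻¹ := rfl

theorem act_mul (A : Amb z K) {h l : G} (hz : h * z = z * h) (lz : l * z = z * l) (hlz : h * l * z = z * (h * l)) :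
    A.act hlz = A.act hz * A.act lz := by
  ext k
  show h * l * k * (h * l)⁻¹ = h * (l * k * l⁻¹) * h⁻¹
  group

/-- inner: `h = k r` -/
theorem of_inn (A : Amb z K) {h : G} (hz : h * z = z * h) (hi : A.act hz ∈ Inn K) :
    ∃ k ∈ K, ∃ r, (∀ l ∈ K, r * l = l * r) ∧ h = k * r := by
  obtain ⟨k, hk⟩ := hi
  refine ⟨k, k.2, (k : G)⁻¹ * h, ?_, by group⟩
  intro l hl
  have h1 := congrArg (fun φ : MulAut K => ((φ ⟨l, hl⟩ : K) : G)) hk
  have h2 : (k : G) * l * (k : G)⁻¹ = h * l * h⁻¹ := h1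
  calc (k : G)⁻¹ * h * l = (k : G)⁻¹ * (h * l * h⁻¹) * h := by group
    _ = (k : G)⁻¹ * ((k : G) * l * (k : G)⁻¹) * h := by rw [h2]
    _ = l * ((k : G)⁻¹ * h) := by group

theorem inn_of (A : Amb z K) {k r : G} (hz : k * r * z = z * (k * r)) (hk : k ∈ K)
    (hr : ∀ l ∈ K, r * l = l * r) : A.act hz ∈ Inn K := by
  refine ⟨⟨k, hk⟩, ?_⟩
  ext l
  show k * l * k⁻¹ = k * r * l * (k * r)⁻¹
  have := hr l l.2
  calc k * l * k⁻¹ = k * (l * r) * r⁻¹ * k⁻¹ := by group
    _ = k * (r * l) * r⁻¹ * k⁻¹ := by rw [this]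
    _ = k * r * l * (k * r)⁻¹ := by group

end Amb

/-- `K R` -/
def KR (K : Subgroup G) : Subgroup G where
  carrier := {h | ∃ k ∈ K, ∃ r, (∀ l ∈ K, r * l = l * r) ∧ h = k * r}
  one_mem' := ⟨1, one_mem _, 1, fun l _ => by rw [one_mul, mul_one], by rw [one_mul]⟩
  mul_mem' := by
    rintro _ _ ⟨k, hk, r, hr, rfl⟩ ⟨k', hk', r', hr', rfl⟩
    refine ⟨k * k', K.mul_mem hk hk', r * r', ?_, ?_⟩
    · intro l hl
      rw [mul_assoc, hr' l hl, ← mul_assoc, hr l hl, mul_assoc]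
    · have := hr k' hk'
      calc k * r * (k' * r') = k * (r * k') * r' := by group
        _ = k * (k' * r) * r' := by rw [this]
        _ = k * k' * (r * r') := by group
  inv_mem' := by
    rintro _ ⟨k, hk, r, hr, rfl⟩
    have hr' : ∀ l ∈ K, r⁻¹ * l = l * r⁻¹ := by
      intro l hl
      rw [inv_mul_eq_iff_eq_mul, ← mul_assoc, hr l hl, mul_inv_cancel_right]
    exact ⟨k⁻¹, K.inv_mem hk, r⁻¹, hr', by rw [mul_inv_rev, hr' _ (K.inv_mem hk)]⟩

theorem KR_commutator (A : Amb z K) : ⁅KR K, KR K⁆ ≤ K := by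
  rw [commutator_le]
  rintro _ ⟨k, hk, r, hr, rfl⟩ _ ⟨k', hk', r', hr', rfl⟩
  have h1 := hr k' hk'
  have h2 := hr' _ (K.inv_mem hk)
  have h3 := A.comm r r' hr hr'
  have h4 : r⁻¹ * k⁻¹ = k⁻¹ * r⁻¹ := by
    rw [inv_mul_eq_iff_eq_mul, ← mul_assoc, hr _ (K.inv_mem hk), mul_inv_cancel_right]
  have h5 := hr (k' : G) hk'
  have h6 : r' * r⁻¹ = r⁻¹ * r' := by
    rw [eq_inv_mul_iff_mul_eq, ← mul_assoc, h3, mul_inv_cancel_right]
  have e : ⁅k * r, k' * r'⁆ = k * k' * k⁻¹ * k'⁻¹ := by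
    rw [commutatorElement_def]
    have h7 : r'⁻¹ * k'⁻¹ = k'⁻¹ * r'⁻¹ := by
      rw [inv_mul_eq_iff_eq_mul, ← mul_assoc, hr' _ (K.inv_mem hk'), mul_inv_cancel_right]
    calc k * r * (k' * r') * (k * r)⁻¹ * (k' * r')⁻¹ = k * (r * k') * r' * (r⁻¹ * k⁻¹) * (r'⁻¹ * k'⁻¹) := by group
      _ = k * (k' * r) * r' * (k⁻¹ * r⁻¹) * (k'⁻¹ * r'⁻¹) := by rw [h5, h4, h7]
      _ = k * k' * r * (r' * k⁻¹) * r⁻¹ * k'⁻¹ * r'⁻¹ := by group
      _ = k * k' * r * (k⁻¹ * r') * r⁻¹ * k'⁻¹ * r'⁻¹ := by rw [h2]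
      _ = k * k' * (r * k⁻¹) * (r' * r⁻¹) * k'⁻¹ * r'⁻¹ := by group
      _ = k * k' * (k⁻¹ * r) * (r⁻¹ * r') * k'⁻¹ * r'⁻¹ := by rw [hr _ (K.inv_mem hk), h6]
      _ = k * k' * k⁻¹ * (r' * k'⁻¹) * r'⁻¹ := by group
      _ = k * k' * k⁻¹ * (k'⁻¹ * r') * r'⁻¹ := by rw [hr' _ (K.inv_mem hk')]
      _ = k * k' * k⁻¹ * k'⁻¹ := by group
  rw [e]
  exact K.mul_mem (K.mul_mem (K.mul_mem hk hk') (K.inv_mem hk)) (K.inv_mem hk')

theorem data (A : Amb z K) (F : KFacts K ⟨z, A.zK⟩) : Data z K := by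
  have hKz : ∀ k ∈ K, k * z = z * k := fun k hk => by
    have := ((F.cen ⟨z, A.zK⟩).mpr (Or.inr rfl)) ⟨k, hk⟩
    exact (congrArg Subtype.val this).symm
  have hinv : ∀ f (hf : Inv z K f), InvL (⟨z, A.zK⟩ : K) ⟨f, hf.mem⟩ := fun f hf =>
    ⟨Subtype.ext hf.sq, fun h => hf.ne (congrArg Subtype.val h), fun h => hf.nez (congrArg Subtype.val h)⟩
  have hz2 : z * z = 1 := congrArg Subtype.val F.cc
  have hz1 : z ≠ 1 := fun h => F.c1 (Subtype.ext h)
  -- elements of `K` centralising `K`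
  have hKR : ∀ r ∈ K, (∀ l ∈ K, r * l = l * r) → r = 1 ∨ r = z := by
    intro r hr h
    rcases (F.cen ⟨r, hr⟩).mp (fun y => Subtype.ext (h y y.2)) with h | h
    · exact Or.inl (congrArg Subtype.val h)
    · exact Or.inr (congrArg Subtype.val h)
  -- products of two elements acting as outer automorphisms
  have hout : ∀ h l (hz : h * z = z * h) (lz : l * z = z * l), A.act hz ∉ Inn K → A.act lz ∉ Inn K →
      h * l ∈ KR K := by
    intro h l hz lz h1 h2
    have hlz : h * l * z = z * (h * l) := by rw [mul_assoc, lz, ← mul_assoc, hz, mul_assoc]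
    have h3 := F.out _ _ h1 h2
    rw [← A.act_mul hz lz hlz] at h3
    exact A.of_inn hlz h3
  have hin : ∀ h (hz : h * z = z * h), A.act hz ∈ Inn K ↔ h ∈ KR K := by
    intro h hz
    constructor
    · exact A.of_inn hz
    · rintro ⟨k, hk, r, hr, rfl⟩
      exact A.inn_of hz hk hr
  -- commutators
  have hcomm : ∀ h l, h * z = z * h → l * z = z * l → h * l * h⁻¹ * l⁻¹ ∈ KR K := by
    intro h l hz lz
    have inv_z : ∀ x, x * z = z * x → x⁻¹ * z = z * x⁻¹ := by
      intro x hx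
      rw [inv_mul_eq_iff_eq_mul, ← mul_assoc, hx, mul_inv_cancel_right]
    have hn : ∀ x k, x * z = z * x → k ∈ KR K → x * k * x⁻¹ ∈ KR K := by
      rintro x _ hx ⟨k, hk, r, hr, rfl⟩
      refine ⟨x * k * x⁻¹, A.norm x hx k hk, x * r * x⁻¹, ?_, by group⟩
      intro a ha
      have h1 := A.norm x⁻¹ (inv_z x hx) a ha
      rw [inv_inv] at h1
      have h2 := hr _ h1
      calc x * r * x⁻¹ * a = x * (r * (x⁻¹ * a * x)) * x⁻¹ := by group
        _ = x * (x⁻¹ * a * x * r) * x⁻¹ := by rw [h2]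
        _ = a * (x * r * x⁻¹) := by group
    by_cases h1 : h ∈ KR K
    · have : h * l * h⁻¹ * l⁻¹ = h * (l * h⁻¹ * l⁻¹) := by group
      rw [this]
      exact (KR K).mul_mem h1 (hn l _ lz ((KR K).inv_mem h1))
    · by_cases h2 : l ∈ KR K
      · exact (KR K).mul_mem (hn h _ hz h2) ((KR K).inv_mem h2)
      · have e1 := hout h l hz lz (fun h3 => h1 ((hin _ _).mp h3)) (fun h3 => h2 ((hin _ _).mp h3))
        have e2 := hout l h lz hz (fun h3 => h2 ((hin _ _).mp h3)) (fun h3 => h1 ((hin _ _).mp h3))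
        have : h * l * h⁻¹ * l⁻¹ = h * l * (l * h)⁻¹ := by group
        rw [this]
        exact (KR K).mul_mem e1 ((KR K).inv_mem e2)
  -- involutions outside `K`
  have hcase : ∀ e, e * e = 1 → e * z = z * e → e ∉ K →
      (∃ k r, ∃ hk : k ∈ K, (∀ l ∈ K, r * l = l * r) ∧ e = k * r ∧ (⟨k, hk⟩ : K) * ⟨k, hk⟩ = ⟨z, A.zK⟩) ∨
      ∃ hz : e * z = z * e, A.act hz ∉ Inn K ∧ A.act hz * A.act hz = 1 := by
    intro e he2 hez heK
    by_cases hi : A.act hez ∈ Inn K
    · left
      obtain ⟨k, hk, r, hr, rfl⟩ := A.of_inn hez hi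
      have h1 : k * k * (r * r) = 1 := by
        calc k * k * (r * r) = k * (k * r) * r := by group
          _ = k * (r * k) * r := by rw [hr k hk]
          _ = 1 := by rw [← he2]; group
      have h2 : k * k = (r * r)⁻¹ := eq_inv_of_mul_eq_one_left h1
      have h3 : ∀ l ∈ K, (r * r) * l = l * (r * r) := fun l hl => by
        rw [mul_assoc, hr l hl, ← mul_assoc, hr l hl, mul_assoc]
      have h4 : k * k = 1 ∨ k * k = z := by
        refine hKR _ (K.mul_mem hk hk) ?_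
        intro l hl
        rw [h2, inv_mul_eq_iff_eq_mul, ← mul_assoc, h3 l hl, mul_inv_cancel_right]
      refine ⟨k, r, hk, hr, rfl, ?_⟩
      rcases h4 with h4 | h4
      · exfalso
        apply heK
        have h5 : r * r = 1 := by rwa [h4, one_mul] at h1
        rcases A.one r hr h5 with rfl | rfl
        · rwa [mul_one]
        · exact K.mul_mem hk A.zK
      · exact Subtype.ext h4
    · right
      refine ⟨hez, hi, ?_⟩
      ext k
      show e * (e * k * e⁻¹) * e⁻¹ = k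
      calc e * (e * k * e⁻¹) * e⁻¹ = (e * e) * k * (e * e)⁻¹ := by group
        _ = k := by rw [he2]; simp
  have hcl : ∀ (P : G → Prop), (closure {y : K | P y}).map K.subtype = closure {y : G | y ∈ K ∧ P y} := by
    intro P
    rw [MonoidHom.map_closure]
    congr 1
    ext y
    constructor
    · rintro ⟨x, hx, rfl⟩
      exact ⟨x.2, hx⟩
    · rintro ⟨h1, h2⟩
      exact ⟨⟨y, h1⟩, h2, rfl⟩
  have three : ∀ y, y * z = z * y → y ^ 3 = 1 → y ∈ K := by
    intro y hy h3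
    have hin' : y ∈ KR K := by
      by_contra hn
      have h1 := hout y y hy hy (fun h => hn ((hin _ _).mp h)) (fun h => hn ((hin _ _).mp h))
      apply hn
      have : y = (y * y)⁻¹ := by
        apply eq_inv_of_mul_eq_one_left
        rw [← h3, pow_three]
      rw [this]
      exact (KR K).inv_mem h1
    obtain ⟨k, hk, r, hr, rfl⟩ := hin'
    have hc : Commute k r := (hr k hk).symm
    have h1 : k ^ 3 * r ^ 3 = 1 := by rw [← hc.mul_pow, h3]
    have h2 : r ^ 3 ∈ K := by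
      have : r ^ 3 = (k ^ 3)⁻¹ := eq_inv_of_mul_eq_one_right h1
      rw [this]
      exact K.inv_mem (K.pow_mem hk 3)
    obtain ⟨n, hn⟩ := A.two r hr
    have h4 : r ∈ K := by
      have hcop : Nat.Coprime 3 (2 ^ n) := Nat.Coprime.pow_right _ (by norm_num)
      obtain ⟨a, b, hab⟩ : ∃ a b : ℤ, 3 * a + 2 ^ n * b = 1 := by
        refine ⟨Nat.gcdA 3 (2 ^ n), Nat.gcdB 3 (2 ^ n), ?_⟩
        have := Nat.gcd_eq_gcd_ab 3 (2 ^ n)
        rw [hcop.gcd_eq_one] at this
        push_cast at this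
        exact this.symm
      have h5 : r = (r ^ 3) ^ a * (r ^ (2 ^ n)) ^ b := by
        conv_lhs => rw [← zpow_one r, ← hab]
        rw [zpow_add, zpow_mul, zpow_mul]
        norm_cast
      rw [h5, hn, one_zpow, mul_one]
      exact K.zpow_mem h2 a
    exact K.mul_mem hk h4
  have hY3 : ∀ f (hf : Inv z K f), (closure {y : K | y * (⟨f, hf.mem⟩ : K) = ⟨f, hf.mem⟩ * y ∧ y ^ 3 = 1}).map
      K.subtype ≤ Y3 z f := by
    intro f hf
    rw [MonoidHom.map_closure, closure_le]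
    rintro _ ⟨y, ⟨h1, h2⟩, rfl⟩
    exact subset_closure ⟨hKz _ y.2, congrArg Subtype.val h1, congrArg Subtype.val h2⟩
  exact
  { zz := hz2
    z1 := hz1
    zK := A.zK
    Kz := hKz
    norm := A.norm
    perf := by
      intro Y hY hYz
      have h1 : Y ≤ KR K := by
        rw [← hY, commutator_le]
        intro a ha b hb
        rw [commutatorElement_def]
        exact hcomm a b (hYz a ha) (hYz b hb)
      have h2 : ⁅Y, Y⁆ ≤ K := (commutator_mono h1 h1).trans (KR_commutator A)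
      rwa [hY] at h2
    three := three
    out_perf := by
      intro e he2 hez heK
      rcases hcase e he2 hez heK with ⟨k, r, hk, hr, rfl, hkk⟩ | ⟨hz, ho, hoo⟩
      · obtain ⟨Y, hY, hYk, x, hx, hx1, hxx⟩ := F.v_perf ⟨k, hk⟩ hkk
        refine ⟨Y.map K.subtype, perf_map hY _, map_subtype_le _, ?_, x, ⟨x, hx, rfl⟩,
          fun h => hx1 (Subtype.ext h), congrArg Subtype.val hxx⟩
        rintro _ ⟨y, hy, rfl⟩
        have h1 : (y : G) * k = k * y := congrArg Subtype.val (hYk y hy)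
        have h2 := hr y y.2
        show (y : G) * (k * r) = k * r * y
        rw [← mul_assoc, h1, mul_assoc, ← h2, mul_assoc]
      · obtain ⟨Y, hY, hYk, x, hx, hx1, hxx⟩ := F.o_perf _ ho hoo
        refine ⟨Y.map K.subtype, perf_map hY _, map_subtype_le _, ?_, x, ⟨x, hx, rfl⟩,
          fun h => hx1 (Subtype.ext h), congrArg Subtype.val hxx⟩
        rintro _ ⟨y, hy, rfl⟩
        have h1 : e * (y : G) * e⁻¹ = y := congrArg Subtype.val (hYk y hy)
        show (y : G) * e = e * y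
        calc (y : G) * e = (e * (y : G) * e⁻¹) * e := by rw [h1]
          _ = e * y := by group
    out_conj := by
      intro e he2 hez heK x hx hxx hxe
      rcases hcase e he2 hez heK with ⟨k, r, hk, hr, rfl, hkk⟩ | ⟨hz, ho, hoo⟩
      · have h1 : x * k = k * x := by
          have h2 : x * k * r = k * x * r := by
            calc x * k * r = x * (k * r) := by group
              _ = k * (r * x) := by rw [hxe]; group
              _ = k * x * r := by rw [hr x hx]; group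
          exact mul_right_cancel h2
        have hkk' : k * k = z := congrArg Subtype.val hkk
        obtain ⟨g, hg⟩ := F.v_conj ⟨k, hk⟩ ⟨k * x, K.mul_mem hk hx⟩ hkk (Subtype.ext (by
          show k * x * (k * x) = z
          calc k * x * (k * x) = k * (x * k) * x := by group
            _ = (k * k) * (x * x) := by rw [h1]; group
            _ = z := by rw [hkk', hxx, mul_one]))
        have hg' : (g : G) * k * (g : G)⁻¹ = k * x := congrArg Subtype.val hg
        refine isConj_iff.mpr ⟨g, ?_⟩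
        have h3 : (g : G) * r * (g : G)⁻¹ = r := by rw [← hr g g.2, mul_inv_cancel_right]
        calc (g : G) * (k * r) * (g : G)⁻¹ = (g * k * (g : G)⁻¹) * (g * r * (g : G)⁻¹) := by group
          _ = k * (x * r) := by rw [hg', h3, mul_assoc]
          _ = k * r * x := by rw [← hr x hx, mul_assoc]
      · obtain ⟨n, hn⟩ := F.o_conj _ ho hoo ⟨x, hx⟩ (Subtype.ext (by
          show e * x * e⁻¹ * x = 1
          calc e * x * e⁻¹ * x = (x * e) * e⁻¹ * x := by rw [hxe]
            _ = x * x := by group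
            _ = 1 := hxx))
        have hn' : x = e * n * e⁻¹ * (n : G)⁻¹ := congrArg Subtype.val hn
        refine isConj_iff.mpr ⟨n, ?_⟩
        have he : e⁻¹ = e := inv_eq_of_mul_eq_one_right he2
        rw [hn', he]
        calc (n : G) * e * (n : G)⁻¹ = (e * e) * n * e * (n : G)⁻¹ := by rw [he2, one_mul]
          _ = e * (e * n * e * (n : G)⁻¹) := by group
    conj := by
      intro f w hf hw
      obtain ⟨k, hk⟩ := F.conj _ _ (hinv f hf) (hinv w hw)
      refine ⟨k, k.2, ?_⟩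
      rcases hk with hk | hk
      · exact Or.inl (congrArg Subtype.val hk)
      · exact Or.inr (congrArg Subtype.val hk)
    sq_or := by
      intro f hf
      rcases F.sq_or _ (hinv f hf) with ⟨s, hs⟩ | ⟨s, hs⟩
      · exact Or.inl ⟨s, s.2, congrArg Subtype.val hs⟩
      · exact Or.inr ⟨s, s.2, congrArg Subtype.val hs⟩
    sq_not := by
      rintro f hf ⟨s, hs, hsf⟩ ⟨t, ht, htf⟩
      exact F.sq_not _ (hinv f hf) ⟨⟨s, hs⟩, Subtype.ext hsf⟩ ⟨⟨t, ht⟩, Subtype.ext htf⟩
    y3 := by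
      rintro f hf ⟨s, hs, hsf⟩
      obtain ⟨⟨a, ha, ha'⟩, b, hb, hb'⟩ := F.y3 _ (hinv f hf) ⟨⟨s, hs⟩, Subtype.ext hsf⟩
      exact ⟨⟨a, hY3 f hf ⟨a, ha, rfl⟩, congrArg Subtype.val ha'⟩,
        b, hY3 f hf ⟨b, hb, rfl⟩, congrArg Subtype.val hb'⟩
    four := by
      rintro f hf ⟨s, hs, hsf⟩
      obtain ⟨x, hx, hx'⟩ := F.four _ (hinv f hf) ⟨⟨s, hs⟩, Subtype.ext hsf⟩
      refine ⟨x, ?_, by
        have := congrArg Subtype.val hx'
        rwa [SubgroupClass.coe_pow] at this⟩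
      have hle : (closure {w : K | w * (⟨f, hf.mem⟩ : K) = ⟨f, hf.mem⟩ * w ∧ w * w = 1}).map K.subtype ≤ W2 K f := by
        rw [MonoidHom.map_closure, closure_le]
        rintro _ ⟨y, ⟨h1, h2⟩, rfl⟩
        exact subset_closure ⟨y.2, congrArg Subtype.val h1, congrArg Subtype.val h2⟩
      exact hle ⟨x, hx, rfl⟩
    not_four := by
      intro x hx h
      exact F.not_four ⟨x, hx⟩ (Subtype.ext (by rw [SubgroupClass.coe_pow]; exact h))
    solv := by
      intro f hf Y hY hYK hYf y hy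
      have h1 : Perf (Y.subgroupOf K) := by
        apply map_injective K.subtype_injective
        rw [Subgroup.map_commutator, subgroupOf_map_subtype, inf_eq_left.mpr hYK, hY]
      have := F.solv _ (hinv f hf) (Y.subgroupOf K) h1 (by
        intro u hu
        exact Subtype.ext (hYf u hu)) ⟨y, hYK hy⟩ hy
      exact congrArg Subtype.val this }

/-- **D9, row `2.M12`.** -/
theorem kill [Finite G] [IsSimpleGroup G] (hna : ¬ IsMulCommutative G) (A : Amb z K)
    (F : KFacts K ⟨z, A.zK⟩) : False := (data A F).kill hna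

end Cfsg.Agent.OddHalf.D9.M12Glue

end
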