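import Cfsg.Agent.OddHalf.D9.GamUSix
import Cfsg.Agent.BabyU.Key
import Cfsg.Agent.TwoESix.LeviHyp
import Cfsg.Agent.TwoESix.KeyExtra
import Cfsg.Agent.TwoESix.KeyQuad
import Cfsg.Agent.TwoESix.ExtTwisted
import Cfsg.Agent.TwoESix.LeviG

-- merged: Cfsg.Agent.OddHalf.D9.GamE6
section

/-!
# `¬ Tied E` for `E = ²E₆(2)` (helper919)

`E` a group with a class `R` of root involutions (`RootFacts`, `Key.Extra`). Every involution of `E` commutes with an
opposite pair of root involutions (`op`); a tied pair centralises every opposite pair commuting with one of its members,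
hence gives a tied pair of `PSU 6 F 2`.
-/

set_option autoImplicit false
set_option linter.unusedSectionVars false

namespace Cfsg.Agent.OddHalf.D9.GamE6

open Cfsg Cfsg.Agent.LieClassical.HermBasic Cfsg.Agent.R01.PSUSix Cfsg.Agent.BabyU.RootCfg
open Cfsg.Agent.ClassicalGeometry.UnitTransv
open Cfsg.Agent.ClassicalGeometry.UnitAutBasic (tau pr pr_surjective)
open Cfsg.Agent.SporadicStructure.UnitTwo
open Cfsg.Agent.R01.InvForm Cfsg.Agent.BabyU.Key

/-! ### Unitary preliminaries -/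

section Unitary

variable {F : Type*} [Field F] [Fintype F] (hF : Fintype.card F = 2 ^ 2)
include hF

/-- an isotropic vector is in a frame of length two -/
theorem exists_fr2 {u : Fin 6 → F} (u0 : u ≠ 0) (uu : hermForm 6 F 2 u u = 0) : ∃ v, Fr2 u v := by
  have hS := fr3_std (F := F) hF
  obtain ⟨g, c, hc, hg⟩ := exists_map hF _ u hS.u_ne u0 hS.uu uu
  have h2 := Fr3_act hF hS g
  have h3 := Fr3_smul hF h2 (inv_ne_zero hc) one_ne_zero one_ne_zero
  rw [hg, smul_smul, inv_mul_cancel₀ hc, one_smul] at h3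
  exact ⟨_, h3.fr2⟩

/-- transitivity on frames of length two, up to scalars -/
theorem trans_fr2 {u v : Fin 6 → F} (hf : Fr2 u v) :
    ∃ (g : SU 6 F 2) (a b : F), a ≠ 0 ∧ b ≠ 0 ∧ act g u = a • ![1, 1, 0, 0, 0, 0] ∧
      act g v = b • ![0, 0, 1, 1, 0, 0] := by
  have hS := fr3_std (F := F) hF
  obtain ⟨g1, a, ha, hg1⟩ := exists_map hF u _ hf.u_ne hS.u_ne hf.uu hS.uu
  have k1 : hermForm 6 F 2 (act g1 v) (act g1 v) = 0 := by rw [herm_act, hf.vv]
  have k2 : hermForm 6 F 2 (act g1 v) ![1, 1, 0, 0, 0, 0] = 0 := by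
    have h3 : hermForm 6 F 2 (act g1 v) (act g1 u) = 0 := by
      rw [herm_act]; exact herm_eq_zero_swap hF hf.uv
    rw [hg1, herm_smul_right] at h3
    exact (mul_eq_zero.1 h3).resolve_left (pow_ne_zero _ ha)
  have k3 : ¬ ∃ c : F, act g1 v = c • (![1, 1, 0, 0, 0, 0] : Fin 6 → F) := by
    rintro ⟨c, hc⟩
    apply hf.not_mul
    refine ⟨c * a⁻¹, act_injective g1 ?_⟩
    rw [hc, act_smul, hg1, smul_smul, mul_assoc, inv_mul_cancel₀ ha, mul_one]
  obtain ⟨g2, hg2, b, hb, hg2v⟩ := trans_perp hF hS.u_ne k1 hS.vv k2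
    (herm_eq_zero_swap hF hS.uv) k3 hS.fr2.not_mul hS.uu
  have hg2u : act g2 ![1, 1, 0, 0, 0, 0] = ![1, 1, 0, 0, 0, 0] := act_of_mem_Ru hF hg2
  exact ⟨g2 * g1, a, b, ha, hb, by rw [act_mul, hg1, act_smul, hg2u], by rw [act_mul, hg2v]⟩

/-- two isotropic vectors orthogonal to a frame of length two, not orthogonal to each other -/
theorem exists_hyp {u v : Fin 6 → F} (hf : Fr2 u v) :
    ∃ p p' : Fin 6 → F, p ≠ 0 ∧ p' ≠ 0 ∧ hermForm 6 F 2 p p = 0 ∧ hermForm 6 F 2 p' p' = 0 ∧
      hermForm 6 F 2 p u = 0 ∧ hermForm 6 F 2 p v = 0 ∧ hermForm 6 F 2 p' u = 0 ∧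
      hermForm 6 F 2 p' v = 0 ∧ hermForm 6 F 2 p p' ≠ 0 := by
  have h2 := two_eq_zero hF
  obtain ⟨w, w', w1, w1', ww, w3, w3', wv, e1, e2⟩ := GamUSix.exists_w hF
  obtain ⟨g, a, b, ha, hb, hgu, hgv⟩ := trans_fr2 hF hf
  have key : ∀ y z : Fin 6 → F, hermForm 6 F 2 (act g⁻¹ y) z = hermForm 6 F 2 y (act g z) := by
    intro y z
    rw [← herm_act g (act g⁻¹ y) z, act_act_inv]
  have inj : ∀ y : Fin 6 → F, y ≠ 0 → act g⁻¹ y ≠ 0 := by
    intro y hy h
    apply hy
    apply act_injective g⁻¹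
    rw [h, act_zero]
  refine ⟨act g⁻¹ ![0, 0, 0, 0, 1, 1], act g⁻¹ ![0, 0, 0, 0, 1, w], ?_, ?_, ?_, ?_, ?_, ?_, ?_, ?_, ?_⟩
  · apply inj
    intro h
    have := congrFun h 4
    simp at this
  · apply inj
    intro h
    have := congrFun h 4
    simp at this
  · rw [herm_act, herm_def]
    simp [Fin.sum_univ_succ]
    linear_combination h2
  · rw [herm_act, herm_def]
    simp [Fin.sum_univ_succ]
    linear_combination h2 + w3
  · rw [key, hgu, herm_smul_right, herm_def]
    simp [Fin.sum_univ_succ]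
  · rw [key, hgv, herm_smul_right, herm_def]
    simp [Fin.sum_univ_succ]
  · rw [key, hgu, herm_smul_right, herm_def]
    simp [Fin.sum_univ_succ]
  · rw [key, hgv, herm_smul_right, herm_def]
    simp [Fin.sum_univ_succ]
  · rw [herm_act, herm_def]
    simp [Fin.sum_univ_succ]
    intro h
    apply w1
    have h3 : w ^ 2 = 1 := by linear_combination h - h2
    have h4 : w ^ 3 = w * w ^ 2 := by ring
    rw [w3, h3, mul_one] at h4
    exact h4.symm

end Unitary

/-! ### Opposite pairs commuting with an involution -/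

section Op

variable {E : Type*} [Group E] {F : Type*} [Field F] [Fintype F]
variable {hF : Fintype.card F = 2 ^ 2} {R : Set E}

/-- some opposite pair commutes with `f` -/
def Op (R : Set E) (f : E) : Prop := ∃ c ∈ R, ∃ d ∈ R, Opp c d ∧ c * f = f * c ∧ d * f = f * d

theorem Op.conj (hR : RootFacts hF R) {f : E} (h : Op R f) (g : E) : Op R (g * f * g⁻¹) := by
  obtain ⟨c, hc, d, hd, ho, h1, h2⟩ := h
  exact ⟨_, hR.conj c hc g, _, hR.conj d hd g, ho.conj g, conj_comm h1 g, conj_comm h2 g⟩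

/-- the opposite pair from a frame of length two -/
theorem exists_pair (hR : RootFacts hF R) {p a : E}
    {ψ : Subgroup.centralizer ({p} : Set E) →* PSU 6 F 2} (C : ChartAt hF R p ψ) (ha : a ∈ R)
    (hpa : Opp p a) {u v : Fin 6 → F} (hf : Fr2 u v) :
    ∃ c ∈ R, ∃ d ∈ R, Opp c d ∧ c * p = p * c ∧ d * p = p * d ∧
      ∀ q, q * a = a * q → (IsVec hF ψ q u ∨ IsVec hF ψ q v) → c * q = q * c ∧ d * q = q * d := by
  obtain ⟨x, y, x0, y0, xx, yy, xu, xv, yu, yv, hxy⟩ := exists_hyp hF hf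
  obtain ⟨c, hc, ca, hcx⟩ := C.exists_root ha hpa x0 xx
  obtain ⟨d, hd, da, hdy⟩ := C.exists_root ha hpa y0 yy
  refine ⟨c, hc, d, hd, opp_of_not_comm hR hc hd hcx hdy hxy, mem_cent.1 hcx.2.2.1,
    mem_cent.1 hdy.2.2.1, fun q qa hq => ?_⟩
  rcases hq with hq | hq
  · exact ⟨(C.comm_iff ha hpa hcx hq ca qa).2 xu, (C.comm_iff ha hpa hdy hq da qa).2 yu⟩
  · exact ⟨(C.comm_iff ha hpa hcx hq ca qa).2 xv, (C.comm_iff ha hpa hdy hq da qa).2 yv⟩

theorem op_of_mem (hR : RootFacts hF R) {p : E} (hp : p ∈ R) : Op R p := by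
  obtain ⟨a, ha, hpa⟩ := hR.exists_opp' hp
  obtain ⟨ψ, C⟩ := hR.chart p hp
  obtain ⟨c, hc, d, hd, ho, cp, dp, -⟩ := exists_pair hR C ha hpa (fr3_std (F := F) hF).fr2
  exact ⟨c, hc, d, hd, ho, cp, dp⟩

theorem op_of_sym (hR : RootFacts hF R) {p b a : E} (hp : p ∈ R) (hb : b ∈ R) (ha : a ∈ R)
    (hap : Opp a p) (hpb : p * b = b * p) (hab : a * b = b * a) : Op R (p * b) := by
  have hpa : Opp p a := hap.symm (hR.sq a ha) (hR.sq p hp)
  obtain ⟨ψ, C⟩ := hR.chart p hp
  obtain ⟨u, hu⟩ := C.exists_vec hR ha hpa hb hpb.symm hab.symm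
  obtain ⟨v, hf⟩ := exists_fr2 hF hu.1 hu.2.1
  obtain ⟨c, hc, d, hd, ho, cp, dp, H⟩ := exists_pair hR C ha hpa hf
  obtain ⟨cb, db⟩ := H b hab.symm (Or.inl hu)
  exact ⟨c, hc, d, hd, ho, (Commute.mul_right (show Commute c p from cp) (show Commute c b from cb)).eq,
    (Commute.mul_right (show Commute d p from dp) (show Commute d b from db)).eq⟩

theorem op_of_tri (hR : RootFacts hF R) {p q r : E} (h : Tri R p q r) : Op R (p * q * r) := by
  obtain ⟨a, ha, hap, haq, har⟩ := h.ex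
  have hpa : Opp p a := hap.symm (hR.sq a ha) (hR.sq p h.pR)
  obtain ⟨ψ, C⟩ := hR.chart p h.pR
  obtain ⟨u, hu⟩ := C.exists_vec hR ha hpa h.qR h.pq.symm haq.symm
  obtain ⟨v, hv⟩ := C.exists_vec hR ha hpa h.rR h.pr.symm har.symm
  have huv := (C.comm_iff ha hpa hu hv haq.symm har.symm).1 h.qr
  have hf : Fr2 u v := by
    refine ⟨hu.2.1, hv.2.1, huv, fun α β h3 => ?_⟩
    by_cases hα : α = 0
    · rw [hα, zero_smul, zero_add] at h3
      exact ⟨hα, (smul_eq_zero.1 h3).resolve_right hv.1⟩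
    · exfalso
      apply h.qne
      have hβ : β ≠ 0 := by
        rintro rfl
        rw [zero_smul, add_zero] at h3
        exact hu.1 ((smul_eq_zero.1 h3).resolve_left hα)
      refine C.eq_of_smul ha hpa hu hv haq.symm har.symm (c := β⁻¹ * α)
        (mul_ne_zero (inv_ne_zero hβ) hα) ?_
      have h4 : α • u = β • v := by
        have h5 : α • u + β • v + β • v = β • v := by rw [h3, zero_add]
        rwa [add_assoc, vadd_self hF, add_zero] at h5
      rw [mul_smul, h4, smul_smul, inv_mul_cancel₀ hβ, one_smul]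
  obtain ⟨c, hc, d, hd, ho, cp, dp, H⟩ := exists_pair hR C ha hpa hf
  obtain ⟨cq, dq⟩ := H q haq.symm (Or.inl hu)
  obtain ⟨cr, dr⟩ := H r har.symm (Or.inr hv)
  exact ⟨c, hc, d, hd, ho,
    (((show Commute c p from cp).mul_right (show Commute c q from cq)).mul_right
      (show Commute c r from cr)).eq,
    (((show Commute d p from dp).mul_right (show Commute d q from dq)).mul_right
      (show Commute d r from dr)).eq⟩

/-- an involution with a root involution opposite to its image (cf. `Key.types_of_opp`) -/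
theorem op_of_opp (hR : RootFacts hF R) (X : Extra hF R) {f a : E} (ff : f * f = 1) (ha : a ∈ R)
    (h : Opp a (f * a * f)) : Op R f := by
  have aa := hR.sq a ha
  have finv : f⁻¹ = f := inv_eq_of_mul_eq_one_left ff
  obtain ⟨a', ha'⟩ : ∃ a', f * a * f = a' := ⟨_, rfl⟩
  have haR : a' ∈ R := by
    rw [← ha']
    have := hR.conj a ha f
    rwa [finv] at this
  have aa' := hR.sq a' haR
  rw [ha'] at h
  have hbraid : a * a' * a = a' * a * a' := by
    have h8 : a * a' * a * (a' * a * a') = 1 := by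
      rw [← h.2, pow_succ, pow_two]; group
    rw [eq_inv_of_mul_eq_one_left h8, mul_inv_rev, mul_inv_rev, hR.inv_eq ha, hR.inv_eq haR]
    group
  obtain ⟨r0, hr0⟩ : ∃ r0, a * a' * a = r0 := ⟨_, rfl⟩
  have hrR : r0 ∈ R := by
    rw [← hr0]
    have := hR.conj a' haR a
    rwa [hR.inv_eq ha] at this
  have rr := hR.sq r0 hrR
  have fa : f * a' = a * f := by
    rw [← ha']
    calc f * (f * a * f) = (f * f) * a * f := by group
      _ = a * f := by rw [ff, one_mul]
  have fa' : f * a = a' * f := by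
    rw [← ha', mul_assoc (f * a) f f, ff, mul_one]
  have fr : f * r0 = r0 * f := by
    calc f * r0 = f * (a' * a * a') := by rw [← hr0, hbraid]
      _ = (f * a') * a * a' := by group
      _ = a * (f * a) * a' := by rw [fa]; group
      _ = a * a' * (f * a') := by rw [fa']; group
      _ = a * a' * a * f := by rw [fa]; group
      _ = r0 * f := by rw [hr0]
  obtain ⟨y, hy⟩ : ∃ y, f * r0 = y := ⟨_, rfl⟩
  have yr : y * r0 = r0 * y := by
    rw [← hy]
    calc f * r0 * r0 = r0 * f * r0 := by rw [fr]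
      _ = r0 * (f * r0) := by group
  have ya : y * a = a * y := by
    rw [← hy]
    calc f * r0 * a = f * (a * a' * a) * a := by rw [hr0]
      _ = f * (a * a') * (a * a) := by group
      _ = f * (1 * (a * a')) := by rw [aa, mul_one, one_mul]
      _ = f * ((a' * a') * (a * a')) := by rw [aa']
      _ = f * a' * (a' * a * a') := by group
      _ = a * f * (a * a' * a) := by rw [fa, hbraid]
      _ = a * (f * r0) := by rw [hr0]; group
  have yy : y * y = 1 := by
    rw [← hy]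
    calc f * r0 * (f * r0) = f * (r0 * f) * r0 := by group
      _ = f * (f * r0) * r0 := by rw [fr]
      _ = (f * f) * (r0 * r0) := by group
      _ = 1 := by rw [ff, rr, mul_one]
  have fy : f = r0 * y := by
    rw [← yr, ← hy, mul_assoc, rr, mul_one]
  have hor : Opp a r0 := by
    have h1 : r0 * a = a * a' := by rw [← hr0, mul_assoc, aa, mul_one]
    have h2 : Opp r0 a := by
      refine ⟨?_, by rw [h1, h.2]⟩
      intro h3
      rw [h3, aa] at h1
      apply h.1
      rw [eq_inv_of_mul_eq_one_left h1.symm, hR.inv_eq haR]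
    exact h2.symm rr aa
  have hra : Opp r0 a := hor.symm aa rr
  obtain ⟨ψ, C⟩ := hR.chart r0 hrR
  set Y : Subgroup.centralizer ({r0} : Set E) := ⟨y, mem_cent.2 yr⟩ with hY
  have hYY : Y * Y = 1 := Subtype.ext yy
  obtain ⟨g, hg, hgY⟩ := exists_lift_sq hF (x := ψ Y) (by rw [← map_mul, hYY, map_one])
  rcases inv_form_SU hF hg with h1 | ⟨u, uu, u0, h1⟩ | ⟨u, v, hfr, h1⟩ | ⟨u, v, w, hfr, h1⟩
  · have h2 := C.inj a ha hra Y ya (by rw [← hgY, h1, map_one])
    have h3 : y = 1 := congrArg Subtype.val h2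
    rw [fy, h3, mul_one]
    exact op_of_mem hR hrR
  · obtain ⟨s, hs, sa, hsu⟩ := C.exists_root ha hra u0 uu
    obtain ⟨-, -, ms, es⟩ := hsu
    have h2 : y = s := C.inj' ha hra (mem_cent.2 yr) ms ya sa (by
      rw [es, tau_eq_pr hF uu, ← h1, ← hgY])
    have hsr : r0 * s = s * r0 := (mem_cent.1 ms).symm
    rw [fy, h2]
    exact op_of_sym hR hrR hs ha hor hsr sa.symm
  · obtain ⟨s, hs, sa, hsu⟩ := C.exists_root ha hra hfr.u_ne hfr.uu
    obtain ⟨s', hs', sa', hsv⟩ := C.exists_root ha hra hfr.v_ne hfr.vv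
    have hss := (C.comm_iff ha hra hsu hsv sa sa').2 hfr.uv
    have hne : s ≠ s' := by
      rintro rfl
      obtain ⟨-, -, m, e⟩ := hsu
      obtain ⟨-, -, m', e'⟩ := hsv
      obtain ⟨c, -, hc⟩ := (tau_eq_iff hF (by norm_num) hfr.uu hfr.vv hfr.u_ne).1 (e.symm.trans e')
      exact hfr.not_mul ⟨c, hc⟩
    obtain ⟨-, -, ms, es⟩ := hsu
    obtain ⟨-, -, ms', es'⟩ := hsv
    have hcs : (s * s') * a = a * (s * s') :=
      (Commute.mul_left (show Commute s a from sa) (show Commute s' a from sa')).eq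
    have h2 : y = s * s' := C.inj' ha hra (mem_cent.2 yr) (mul_mem ms ms') ya hcs (by
      have h3 : (⟨s * s', mul_mem ms ms'⟩ : Subgroup.centralizer ({r0} : Set E)) = ⟨s, ms⟩ * ⟨s', ms'⟩ := rfl
      rw [h3, map_mul, es, es', tau_eq_pr hF hfr.uu, tau_eq_pr hF hfr.vv, ← map_mul, ← h1, ← hgY])
    rw [fy, h2, ← mul_assoc]
    exact op_of_tri hR ⟨hrR, hs, hs', (mem_cent.1 ms).symm, (mem_cent.1 ms').symm, hss, hne,
      a, ha, hor, sa.symm, sa'.symm⟩
  · obtain ⟨s, hs, sa, hsu⟩ := C.exists_root ha hra hfr.u_ne hfr.uu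
    obtain ⟨s', hs', sa', hsv⟩ := C.exists_root ha hra hfr.v_ne hfr.vv
    obtain ⟨s'', hs'', sa'', hsw⟩ := C.exists_root ha hra hfr.w_ne hfr.ww
    obtain ⟨p1, q1, r1, t1, p2, q2, r2, hq, ht, heq⟩ := X.quad
    obtain ⟨k, k1, k2, k3, k4⟩ := quad_conj hR X C hrR ha hor sa sa' sa'' hsu hsv hsw hfr hq
    obtain ⟨-, -, ms, es⟩ := hsu
    obtain ⟨-, -, ms', es'⟩ := hsv
    obtain ⟨-, -, ms'', es''⟩ := hsw
    have hcs : (s * s' * s'') * a = a * (s * s' * s'') :=
      (Commute.mul_left (Commute.mul_left (show Commute s a from sa) (show Commute s' a from sa'))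
        (show Commute s'' a from sa'')).eq
    have h2 : y = s * s' * s'' := C.inj' ha hra (mem_cent.2 yr) (mul_mem (mul_mem ms ms') ms'') ya hcs (by
      have h3 : (⟨s * s' * s'', mul_mem (mul_mem ms ms') ms''⟩ : Subgroup.centralizer ({r0} : Set E)) =
        ⟨s, ms⟩ * ⟨s', ms'⟩ * ⟨s'', ms''⟩ := rfl
      rw [h3, map_mul, map_mul, es, es', es'', tau_eq_pr hF hfr.uu, tau_eq_pr hF hfr.vv, tau_eq_pr hF hfr.ww,
        ← map_mul, ← map_mul, ← h1, ← hgY])
    have h3 : k * f * k⁻¹ = p2 * q2 * r2 := by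
      rw [← heq, ← k1, ← k2, ← k3, ← k4, fy, h2]
      group
    have h4 : Op R (k * f * k⁻¹) := by rw [h3]; exact op_of_tri hR ht
    have h5 := h4.conj hR k⁻¹
    have h6 : k⁻¹ * (k * f * k⁻¹) * k⁻¹⁻¹ = f := by group
    rwa [h6] at h5

/-- **every involution commutes with an opposite pair** -/
theorem op (hR : RootFacts hF R) (X : Extra hF R) {f : E} (ff : f * f = 1) (hf1 : f ≠ 1) : Op R f := by
  obtain ⟨r, hr, hfr⟩ := X.odd f ff
  obtain ⟨ψ, C⟩ := hR.chart r hr
  have rr := hR.sq r hr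
  by_cases hψ : ψ ⟨f, mem_cent.2 hfr⟩ = 1
  · by_cases hfr1 : f = r
    · rw [hfr1]; exact op_of_mem hR hr
    obtain ⟨a, ha, h | h⟩ := opp_of_map_eq hR X hr C hfr ff hf1 hψ
    · exact op_of_opp hR X ff ha h
    · have h1 : (f * r) * (f * r) = 1 := by
        calc (f * r) * (f * r) = f * (r * f) * r := by group
          _ = f * (f * r) * r := by rw [hfr]
          _ = (f * f) * (r * r) := by group
          _ = 1 := by rw [ff, rr, mul_one]
      have h2 := op_of_opp hR X h1 ha h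
      obtain ⟨g, hg⟩ := X.ker r hr ψ C ⟨f, mem_cent.2 hfr⟩ (Subtype.ext ff) hψ hf1 hfr1
      have h3 := h2.conj hR g⁻¹
      have h4 : g⁻¹ * (f * r) * g⁻¹⁻¹ = f := by
        have hg' : g * f * g⁻¹ = f * r := hg
        rw [← hg']; group
      rwa [h4] at h3
  · obtain ⟨a, ha, h⟩ := opp_of_map_ne hR hr C hfr ff hψ
    exact op_of_opp hR X ff ha h

/-- a tied involution centralises the opposite pairs -/
theorem comm_of_tied (hR : RootFacts hF R) {a b c d : E} (hb : b * b = 1) (hab : a * b = b * a)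
    (H : ∀ x : E, Odd (orderOf x) → x * a = a * x → x * b = b * x) (hc : c ∈ R) (hd : d ∈ R)
    (ho : Opp c d) (hca : c * a = a * c) (hda : d * a = a * d) : c * b = b * c ∧ d * b = b * d := by
  have cc := hR.sq c hc
  have dd := hR.sq d hd
  have odd3 : ∀ x : E, x ^ 3 = 1 → Odd (orderOf x) := fun x hx =>
    Odd.of_dvd_nat (by decide) (orderOf_dvd_of_pow_eq_one hx)
  obtain ⟨h, hh⟩ : ∃ h, c * d = h := ⟨_, rfl⟩
  have h3 : h ^ 3 = 1 := by rw [← hh]; exact ho.2
  have hne : h ≠ 1 := by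
    intro h1
    apply ho.1
    rw [← hh] at h1
    rw [eq_inv_of_mul_eq_one_left h1, hR.inv_eq hd]
  have hha : h * a = a * h := by
    rw [← hh]
    exact (Commute.mul_left (show Commute c a from hca) (show Commute d a from hda)).eq
  have hhb : h * b = b * h := H h (odd3 h h3) hha
  have binv : b⁻¹ = b := inv_eq_of_mul_eq_one_left hb
  obtain ⟨c', hc'⟩ : ∃ c', b * c * b = c' := ⟨_, rfl⟩
  have hcR : c' ∈ R := by
    rw [← hc']
    have := hR.conj c hc b
    rwa [binv] at this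
  have cc' := hR.sq c' hcR
  obtain ⟨y, hy⟩ : ∃ y, c * c' = y := ⟨_, rfl⟩
  have hya : y * a = a * y := by
    have k1 : Commute c a := hca
    have k2 : Commute b a := hab.symm
    have k3 : Commute c' a := by rw [← hc']; exact (k2.mul_left k1).mul_left k2
    rw [← hy]
    exact (k1.mul_left k3).eq
  -- `c h c = h⁻¹`
  have hch : c * h = h⁻¹ * c := by
    rw [← hh, mul_inv_rev, hR.inv_eq hc, hR.inv_eq hd, ← mul_assoc, cc, one_mul, mul_assoc, cc, mul_one]
  have hch' : c' * h = h⁻¹ * c' := by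
    have hib : h⁻¹ * b = b * h⁻¹ := (show Commute h b from hhb).inv_left.eq
    calc c' * h = b * c * (b * h) := by rw [← hc']; group
      _ = b * (c * h) * b := by rw [← hhb]; group
      _ = (b * h⁻¹) * c * b := by rw [hch]; group
      _ = h⁻¹ * (b * c * b) := by rw [← hib]; group
      _ = h⁻¹ * c' := by rw [hc']
  have hyh : Commute y h := by
    show y * h = h * y
    have hci : c * h⁻¹ = h * c := by
      have : h⁻¹ * c = c * h := hch.symm
      calc c * h⁻¹ = h * (h⁻¹ * c) * h⁻¹ := by group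
        _ = h * c := by rw [this]; group
    calc y * h = c * (c' * h) := by rw [← hy]; group
      _ = (c * h⁻¹) * c' := by rw [hch']; group
      _ = h * y := by rw [hci, ← hy]; group
  have hcd' : c' * d = y⁻¹ * h := by
    rw [← hy, ← hh, mul_inv_rev, hR.inv_eq hc, hR.inv_eq hcR]
    calc c' * d = c' * (c * c) * d := by rw [cc, mul_one]
      _ = c' * c * (c * d) := by group
  have h4 : y ^ 4 = 1 ∨ y ^ 3 = 1 := by rw [← hy]; exact hR.ord c hc c' hcR
  have h5 : (y⁻¹ * h) ^ 4 = 1 ∨ (y⁻¹ * h) ^ 3 = 1 := by rw [← hcd']; exact hR.ord c' hcR d hd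
  have hyi : Commute y⁻¹ h := hyh.inv_left
  rw [hyi.mul_pow, hyi.mul_pow, h3, mul_one, inv_pow, inv_pow] at h5
  have h43 : h ^ 4 = h := by rw [pow_succ, h3, one_mul]
  rw [h43] at h5
  have hy3 : y ^ 3 = 1 := by
    rcases h4 with h4 | h4
    · rcases h5 with h5 | h5
      · exfalso
        rw [h4, inv_one, one_mul] at h5
        exact hne h5
      · exact inv_eq_one.1 h5
    · exact h4
  have hyb : y * b = b * y := H y (odd3 y hy3) hya
  have hy1 : y = 1 := by
    have k1 : b * y * b = y⁻¹ := by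
      rw [← hy, mul_inv_rev, hR.inv_eq hc, hR.inv_eq hcR, ← hc']
      calc b * (c * (b * c * b)) * b = b * c * b * c * (b * b) := by group
        _ = b * c * b * c := by rw [hb, mul_one]
    have k2 : b * y * b = y := by rw [← hyb, mul_assoc, hb, mul_one]
    have k3 : y * y = 1 := by
      have : y = y⁻¹ := k2.symm.trans k1
      calc y * y = y * y⁻¹ := by rw [← this]
        _ = 1 := mul_inv_cancel y
    rw [pow_succ, pow_two, k3, one_mul] at hy3
    exact hy3
  have hcc : c' = c := by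
    rw [hy1] at hy
    calc c' = (c * c) * c' := by rw [cc, one_mul]
      _ = c * (c * c') := by group
      _ = c := by rw [hy, mul_one]
  have hcb : c * b = b * c := by
    calc c * b = c' * b := by rw [hcc]
      _ = b * c * (b * b) := by rw [← hc']; group
      _ = b * c := by rw [hb, mul_one]
  refine ⟨hcb, ?_⟩
  have hd' : d = c * h := by rw [← hh, ← mul_assoc, cc, one_mul]
  rw [hd']
  exact (Commute.mul_left (show Commute c b from hcb) (show Commute h b from hhb)).eq

/-- **`²E₆(2)` has no tied pair** -/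
theorem not_tied (hR : RootFacts hF R) (X : Extra hF R) : ¬ Gamma.Tied E := by
  rintro ⟨a, b, ha, hb, ha1, hb1, hne, hab, H⟩
  obtain ⟨c, hc, d, hd, ho, hca, hda⟩ := op hR X ha ha1
  obtain ⟨hcb, hdb⟩ := comm_of_tied hR hb hab (fun x hx h => (H x hx (Or.inl h)).2) hc hd ho hca hda
  obtain ⟨ψ, -⟩ := Cfsg.Agent.TwoESix.LeviHyp.chart_equiv hR hc hd ho
  apply GamUSix.not_tied hF
  apply Gamma.Tied.of_equiv ψ
  have mem : ∀ x : E, c * x = x * c → d * x = x * d → x ∈ Subgroup.centralizer ({c, d} : Set E) := by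
    intro x h1 h2
    rw [Subgroup.mem_centralizer_iff]
    rintro y (rfl | hy)
    · exact h1
    · rw [Set.mem_singleton_iff] at hy; rw [hy]; exact h2
  refine ⟨⟨a, mem a hca hda⟩, ⟨b, mem b hcb hdb⟩, Subtype.ext ha, Subtype.ext hb,
    fun h => ha1 (congrArg Subtype.val h), fun h => hb1 (congrArg Subtype.val h),
    fun h => hne (congrArg Subtype.val h), Subtype.ext hab, ?_⟩
  intro x hx hxw
  have hx' : Odd (orderOf (x : E)) := by rw [Subgroup.orderOf_coe]; exact hx
  obtain ⟨h1, h2⟩ := H x hx' (by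
    rcases hxw with h | h | h
    · exact Or.inl (congrArg Subtype.val h)
    · exact Or.inr (Or.inl (congrArg Subtype.val h))
    · exact Or.inr (Or.inr (congrArg Subtype.val h)))
  exact ⟨Subtype.ext h1, Subtype.ext h2⟩

end Op

end Cfsg.Agent.OddHalf.D9.GamE6

end

-- merged: Cfsg.Agent.OddHalf.D9.GamE6Inst
section

/-!
# `¬ Tied (twistedE6 K 2)`, `|K| = 4` (helper919)
-/

set_option autoImplicit false

namespace Cfsg.Agent.OddHalf.D9.GamE6Inst

open Cfsg Cfsg.Lie Cfsg.Agent.BabyU Cfsg.Agent.BabyU.RootCfg Cfsg.Agent.BabyU.Key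
open Cfsg.Agent.TwoESix

/-- the facts of `Key.Extra` for the root involutions of `²E₆(2)` -/
theorem extra {K : Type*} [Field K] [Fintype K] (hK : Fintype.card K = 4) {F' : Type*} [Field F']
    [Fintype F'] (hF' : Fintype.card F' = 2 ^ 2) : Extra hF' (rootClass K) where
  opp_trans := fun r hr s hs r' hr' s' hs' h h' =>
    (ExtTwisted.basic K hK).opp_trans r hr s hs r' hr' s' hs' h.1 h.2 h'.1 h'.2
  spe := KeyExtra.spe hK
  odd := KeyExtra.odd hK
  ker := KeyExtra.ker hK
  quad := KeyQuad.quad K hK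

theorem not_tied {K : Type*} [Field K] [Fintype K] (hK : Fintype.card K = 4) :
    ¬ Gamma.Tied (twistedE6 K 2) := by
  have hK' : Fintype.card K = 2 ^ 2 := by rw [hK]; norm_num
  exact GamE6.not_tied (LeviG.rootFacts hK hK') (extra hK hK')

end Cfsg.Agent.OddHalf.D9.GamE6Inst

end
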