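import Cfsg.Agent.OddHalf.D9.Plug.Base
import Cfsg.Agent.KFacts.MulHe.Main
import Cfsg.Agent.KFacts.MulY.Fi23
import Cfsg.Agent.KFacts.MulSpor.McLLy
import Cfsg.Agent.KFacts.MulSpor.J3
import Cfsg.Agent.KFacts.J3
import Cfsg.Agent.KFacts.MulFi24.Main
import Cfsg.Agent.HN.CoverUnique
import Cfsg.Agent.HN.Hom
import Cfsg.Agent.HN.InvHN
import Cfsg.Agent.HN.SimpleHN
import Cfsg.Agent.KFacts.MulLift
import Cfsg.Agent.S1701
import Cfsg.Agent.KFacts.MulDef
import Cfsg.Agent.Bimonster.FiFacts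
import Cfsg.Agent.Bimonster.Split
import Cfsg.Agent.Bimonster.Bim
import Cfsg.Agent.KFacts.MulSpor.NoDbl
import Cfsg.Agent.KFacts.MulM23.Main
import Cfsg.Agent.KFacts.MulSpor.CoThree
import Cfsg.Agent.KFacts.MulY.CoTwo
import Cfsg.Agent.KFacts.MulSpor.ON
import Cfsg.Agent.S1699
import Cfsg.Agent.KFacts.MulSpor.Th
import Cfsg.Agent.MonsterP.Equiv
import Cfsg.Agent.KFacts.Mult.LacedE
import Cfsg.Agent.KFacts.Mult.LacedRGD
import Cfsg.Agent.KFacts.SLRow.Psl
import Cfsg.Agent.Nodes.CommA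
import Cfsg.Agent.KFacts.Mult.OMinus
import Cfsg.Agent.KFacts.Mult.OMinusTwoInst
import Cfsg.Agent.KFacts.Mult.TypeA
import Cfsg.Agent.KFacts.Mult.Chev
import Cfsg.Agent.KFacts.Mult.Unitary
import Cfsg.Agent.KFacts.Mult.WittZ
import Cfsg.Agent.KFacts.Mult.SpTwo
import Cfsg.Agent.KFacts.Mult.LacedDRow
import Cfsg.Agent.KFacts.Mult.ThreeD4Big
import Cfsg.Agent.KFacts.Mult.TwESixBig
import Cfsg.Agent.KFacts.Mult.UnitInst
import Cfsg.Agent.KFacts.Mult.TwFFour
import Cfsg.Agent.KFacts.OddLift.Tits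
import Cfsg.Agent.OddHalf.D9.L34Mult.Mult
import Cfsg.Agent.KFacts.MulM22.Row
import Cfsg.Agent.OddHalf.D9.MultAll.Two

-- merged: Cfsg.Agent.OddHalf.D9.Plug.He
section

/-!
# D9, plug: `He`
-/

set_option autoImplicit false

namespace Cfsg.Agent.OddHalf.D9.Plug.He

open Subgroup Cfsg Cfsg.Agent.OddHalf.D9.Cut Cfsg.Agent.OddHalf.D9.MultOf Cfsg.Agent.OddHalf.D9.Plug.Base
open Cfsg.Agent.KFacts.MulDef Cfsg.Agent.KFacts.MulBound

universe u

/-- field of `SporND` -/
theorem field : ∀ (X : Type u) [Group X], Spor.IsoHe X → NoDouble X :=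
  fun _ _ ⟨e⟩ => Cfsg.Agent.KFacts.MulHe.Main.noDouble.congr e.symm

end Cfsg.Agent.OddHalf.D9.Plug.He

end

-- merged: Cfsg.Agent.OddHalf.D9.Plug.Fi23
section

/-!
# D9, plug: `Fi23`
-/

set_option autoImplicit false

namespace Cfsg.Agent.OddHalf.D9.Plug.Fi23

open Subgroup Cfsg Cfsg.Agent.OddHalf.D9.Cut Cfsg.Agent.OddHalf.D9.MultOf Cfsg.Agent.OddHalf.D9.Plug.Base
open Cfsg.Agent.KFacts.MulDef Cfsg.Agent.KFacts.MulBound

universe u

/-- field of `SporND` -/
theorem field : ∀ (X : Type u) [Group X], Spor.IsoFi23 X → NoDouble X :=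
  fun _ _ ⟨e⟩ => Cfsg.Agent.KFacts.MulY.Fi23.noDouble.congr e.symm

end Cfsg.Agent.OddHalf.D9.Plug.Fi23

end

-- merged: Cfsg.Agent.OddHalf.D9.Plug.McLLy
section

/-!
# D9, plug: McL and Ly
-/

set_option autoImplicit false

namespace Cfsg.Agent.OddHalf.D9.Plug.McLLy

open Subgroup Cfsg Cfsg.Agent.OddHalf.D9.Cut Cfsg.Agent.OddHalf.D9.MultOf Cfsg.Agent.OddHalf.D9.Plug.Base
open Cfsg.Agent.KFacts.MulDef Cfsg.Agent.KFacts.MulBound

universe u

/-- field of `SporND` -/
theorem mcl : ∀ (X : Type u) [Group X], Spor.IsoMcL X → NoDouble X :=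
  fun _ _ h => Cfsg.Agent.KFacts.MulSpor.McLLy.mcl h

/-- field of `SporND` -/
theorem ly : ∀ (X : Type u) [Group X], Spor.IsoLy X → NoDouble X :=
  fun _ _ h => Cfsg.Agent.KFacts.MulSpor.McLLy.ly h

end Cfsg.Agent.OddHalf.D9.Plug.McLLy

end

-- merged: Cfsg.Agent.KFacts.MulSpor.J3Iso
section

/-!
# The Janko group `J₃` has no perfect double cover (helper279)
-/

set_option autoImplicit false

namespace Cfsg.Agent.KFacts.MulSpor.J3Iso

open Subgroup Cfsg Cfsg.Agent.KFacts.MulDef Cfsg.Agent.J3Type.OneClass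

universe u

/-- **The 2-part of the Schur multiplier of `J₃` is trivial.** -/
theorem noDouble (X : Type u) [Group X] (h : Spor.IsoJ3 X) : NoDouble X := by
  obtain ⟨-, z, Q, v, ρ, n, w, F⟩ := Cfsg.Agent.KFacts.J3.exists_facts h
  have M := F.model
  have hz2 : orderOf z = 2 := orderOf_eq_prime (by rw [pow_two]; exact congrArg Subtype.val M.z_sq)
    (fun e => M.z_ne (Subtype.ext e))
  refine Cfsg.Agent.KFacts.MulSpor.J3.noDouble (t := z) ⟨hz2, F.card_C, Q, v, ρ, M⟩ ?_
  have h1 : ∀ x : X, orderOf x = 2 → IsConj z x := by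
    intro x hx
    obtain ⟨g, hg⟩ := F.one x (fun e => by rw [e, orderOf_one] at hx; omega) (by
      rw [← pow_two, ← hx, pow_orderOf_eq_one])
    exact isConj_iff.2 ⟨g, hg⟩
  intro x y hx hy
  exact (h1 x hx).symm.trans (h1 y hy)

end Cfsg.Agent.KFacts.MulSpor.J3Iso

end

-- merged: Cfsg.Agent.KFacts.MulFi24.Final
section

/-! # `Fi24'` has no perfect double cover -/

set_option autoImplicit false

namespace Cfsg.Agent.KFacts.MulFi24.Final

open Cfsg Cfsg.Agent.KFacts.MulDef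

theorem noDouble : NoDouble Cfsg.Spor.Fi24' := Main.noDouble Cfsg.Agent.KFacts.MulY.Fi23.noDouble

theorem noDouble_of_iso {K : Type*} [Group K] (h : Spor.IsoFi24' K) : NoDouble K := by
  obtain ⟨e⟩ := h
  exact noDouble.congr e.symm

end Cfsg.Agent.KFacts.MulFi24.Final

end

-- merged: Cfsg.Agent.KFacts.MulHN
section

/-!
# The Harada-Norton group has no perfect double cover

`K = 2.HS`, the even part of `H0 = ⟨x, y, z⟩ = 2.HS.2`, has the property that `HS = K / ⟨τ⟩` has exactly one perfect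
double cover (`HN.CoverUnique`).  Let `π : L → HN` be a perfect double cover with kernel `{1, c}`.

* `τ` is the centre of a quaternion subgroup of `H0`; so all lifts of `τ`, and of its conjugate `z`, are involutions.
* So (`MulLift.exists_lift_of_uniq`) `K → HN` lifts to `s : K → L`, and `z` acts on `s(K)` as on `K`.
* `t` has a lift of order 5; with the sign of the lift of `z` given by `(z t)³` all relators hold in `L`.
-/

set_option autoImplicit false

namespace Cfsg.Agent.KFacts.MulHN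

open Cfsg.Agent.HN Cfsg.Agent.HN.Pres Cfsg.Agent.HN.P1408 Cfsg.Agent.HN.H0Basic Cfsg.Agent.HN.HS100
open Cfsg.Agent.KFacts.MulTwo Cfsg.Agent.KFacts.MulDef Cfsg.Agent.KFacts.MulBound Cfsg.Agent.KFacts.MulLift
open Subgroup
open scoped commutatorElement

/-! ### `2.HS` -/

theorem gxne : gx ^ 2 ≠ 1 := τ_ne_one

theorem isSimple_Q : IsSimpleGroup Q := (DoubleCover.nonempty_Q card_H0 gxne).2

theorem perf_Q : commutator Q = ⊤ := by
  have hs := isSimple_Q
  rcases hs.eq_bot_or_eq_top_of_normal (commutator Q) inferInstance with h | h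
  · exfalso
    have h1 : ⊤ ≤ center Q := by
      intro a _
      rw [mem_center_iff]
      intro b
      have h2 : ⁅b, a⁆ ∈ commutator Q := commutator_mem_commutator (mem_top b) (mem_top a)
      rw [h, mem_bot, commutatorElement_eq_one_iff_mul_comm] at h2
      exact h2
    rw [DoubleCover.center_Q card_H0 gxne] at h1
    have h3 := DoubleCover.card_Q card_H0 gxne
    rw [← Subgroup.card_top, le_bot_iff.1 h1, card_bot] at h3
    norm_num at h3
  · exact h

theorem finite_K : Finite K := by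
  have := finite_H0
  infer_instance

theorem perf_K : commutator K = ⊤ := by
  have hfin := finite_K
  have hmap : (commutator K).map DoubleCover.φK = ⊤ := by
    rw [commutator_def, Subgroup.map_commutator, Subgroup.map_top_of_surjective _ DoubleCover.φK_surj,
      ← commutator_def, perf_Q]
  have key : ∀ k : K, k ∈ commutator K ∨ k * ⟨τ, τ_mem_K⟩ ∈ commutator K := by
    intro k
    have h1 : DoubleCover.φK k ∈ (commutator K).map DoubleCover.φK := by rw [hmap]; trivial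
    obtain ⟨d, hd, hdk⟩ := h1
    have h2 : φ (d : H0) = φ (k : H0) := congrArg Subtype.val hdk
    rcases φ_eq_iff.1 h2 with h3 | h3
    · left
      rwa [← show d = k from Subtype.ext h3]
    · right
      rwa [← show d = k * ⟨τ, τ_mem_K⟩ from Subtype.ext h3]
  by_cases hτ : (⟨τ, τ_mem_K⟩ : K) ∈ commutator K
  · rw [eq_top_iff]
    intro k _
    rcases key k with h | h
    · exact h
    · have := mul_mem h (inv_mem hτ)
      rwa [mul_inv_cancel_right] at this
  · exfalso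
    apply CoverUnique.K_no_index_two (commutator K)
    rw [index_eq_two_iff]
    refine ⟨⟨τ, τ_mem_K⟩, fun b => ?_⟩
    have h1 : ∀ b, b ∈ commutator K → b * ⟨τ, τ_mem_K⟩ ∉ commutator K := by
      intro b hb hb2
      apply hτ
      have h3 := mul_mem (inv_mem hb) hb2
      rwa [inv_mul_cancel_left] at h3
    rcases key b with h2 | h2
    · exact Or.inr ⟨h2, h1 b h2⟩
    · exact Or.inl ⟨h2, fun h3 => h1 b h3 h2⟩

/-- `K → Q` is a perfect double cover. -/
theorem dbl_K : Dbl DoubleCover.φK (⟨τ, τ_mem_K⟩ : K) where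
  ne := fun h => τ_ne_one (congrArg Subtype.val h)
  sq := Subtype.ext τ_mul_τ
  cen := fun x => Subtype.ext (τ_comm x).symm
  perf := perf_K
  surj := DoubleCover.φK_surj
  ker := fun x => by
    constructor
    · intro h
      have h1 : φ (x : H0) = 1 := congrArg Subtype.val h
      rcases φ_eq_one_iff.1 h1 with h2 | h2
      · exact Or.inl (Subtype.ext h2)
      · exact Or.inr (Subtype.ext h2)
    · rintro (rfl | rfl)
      · exact map_one _
      · exact Subtype.ext φ_τ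

/-- a perfect group has no subgroup of index 2 -/
theorem index_ne_two {L : Type*} [Group L] (hL : commutator L = ⊤) (S : Subgroup L) : S.index ≠ 2 := by
  intro h
  have hn : S.Normal := normal_of_index_eq_two h
  have h1 : commutator L ≤ S := by
    rw [commutator_def, commutator_le]
    intro a _ b _
    rw [commutatorElement_def, mul_mem_iff_of_index_two h, mul_mem_iff_of_index_two h, mul_mem_iff_of_index_two h,
      inv_mem_iff, inv_mem_iff]
    tauto
  rw [hL, top_le_iff] at h1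
  rw [h1, index_top] at h
  norm_num at h

/-- a perfect double cover of `Q` in the sense of `CoverUnique` -/
theorem cov_of_dbl {L : Type*} [Group L] {π : L →* Q} {c : L} (hd : Dbl π c) :
    CoverUnique.Cov c (Q.subtype.comp π) where
  ne := hd.ne
  sq := hd.sq
  cen := fun g => (hd.cen g).symm
  ker := fun g => by
    rw [← hd.ker]
    exact ⟨fun h => Subtype.ext h, fun h => congrArg Subtype.val h⟩
  range := by
    rw [MonoidHom.range_comp, MonoidHom.range_eq_top.2 hd.surj, ← MonoidHom.range_eq_map, Subgroup.range_subtype]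
  no2 := index_ne_two hd.perf

/-- **The Higman-Sims group has only one perfect double cover.** -/
theorem uniq_Q : Uniq Q := by
  intro L M _ _ _ _ π ρ c d h1 h2
  obtain ⟨e1, he1⟩ := (cov_of_dbl h1).exists_equiv
  obtain ⟨e2, he2⟩ := (cov_of_dbl h2).exists_equiv
  refine ⟨e1.symm.trans e2, fun x => ?_⟩
  obtain ⟨k, rfl⟩ := e1.surjective x
  rw [MulEquiv.trans_apply, e1.symm_apply_apply]
  apply Subtype.ext
  exact (he2 k).trans (he1 k).symm

theorem uniq_HS : Uniq Cfsg.Spor.HS := by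
  obtain ⟨f⟩ := (DoubleCover.nonempty_Q card_H0 gxne).1
  exact uniq_Q.congr f

/-! ### The quaternion group -/

/-- `i` -/
def wi : List ℕ := [1, 3, 0, 4, 3, 1, 3, 0, 4, 3]
/-- `j` -/
def wj : List ℕ := [4, 2, 4, 1, 2, 1, 2, 4, 1, 2, 1, 4]

theorem q1 : hw wi * hw wi = τ := by
  rw [← hw_append, ← hw_τ]
  exact hw_eq (by decide +kernel)

theorem q2 : hw wj * hw wj = τ := by
  rw [← hw_append, ← hw_τ]
  exact hw_eq (by decide +kernel)

theorem q3 : hw wj * hw wi * (hw wj)⁻¹ = (hw wi)⁻¹ := by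
  rw [← hw_iw, ← hw_iw, ← hw_append, ← hw_append]
  exact hw_eq (by decide +kernel)

/-! ### The theorem -/

theorem c_pow_five {L G : Type*} [Group L] [Group G] {π : L →* G} {c : L} (hd : Dbl π c) : c ^ 5 = c := by
  have h : c ^ 5 = (c * c) * (c * c) * c := by
    simp only [pow_succ, pow_zero, one_mul, mul_assoc]
  rw [h, hd.sq, one_mul, one_mul]

theorem noDouble_of_simple (hsimple : IsSimpleGroup Cfsg.Spor.HN) : NoDouble Cfsg.Spor.HN := by
  intro L _ _ π c hd
  have hKf := finite_K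
  -- lifts of `τ` and `z`
  have hτ : ∀ x : L, π x = NormalH.ψ τ → x * x = 1 := by
    intro x hx
    obtain ⟨i, hi⟩ := hd.surj (NormalH.ψ (hw wi))
    obtain ⟨j, hj⟩ := hd.surj (NormalH.ψ (hw wj))
    refine sq_of_quat hd (i := i) (j := j) ?_ ?_ ?_
    · rw [map_mul, hi, hx, ← map_mul, q1]
    · rw [map_mul, hj, hx, ← map_mul, q2]
    · rw [map_mul, map_mul, map_inv, map_inv, hi, hj, ← map_inv, ← map_inv, ← map_mul, ← map_mul, q3]
  obtain ⟨t0, ht0⟩ := hd.surj (NormalH.ψ τ)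
  have hz : ∀ x : L, π x = NormalH.ψ gz → x * x = 1 := by
    intro x hx
    refine sq_conj' hd (x := t0) ?_ (hτ t0 ht0)
    rw [ht0, hx]
    exact InvHN.isConj_z.symm
  -- the lift of `K`
  obtain ⟨s, hs⟩ := exists_lift_of_uniq uniq_Q dbl_K (NormalH.ψ.comp K.subtype) hd (t := t0) ht0 (hτ t0 ht0)
  have hs' : ∀ k : K, π (s k) = NormalH.ψ (k : H0) := hs
  -- uniqueness
  have huniq : ∀ (f g : K →* L), (∀ k, π (f k) = π (g k)) → f = g := fun f g h =>
    hom_eq_of_perfect perf_K (fun x hx g => by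
      rcases (hd.ker x).1 hx with rfl | rfl
      · rw [one_mul, mul_one]
      · exact hd.cen g) h
  have hKn : (K : Subgroup H0).Normal := normal_of_index_eq_two K_index
  -- conjugation
  have hconj : ∀ (h : H0) (l : L), π l = NormalH.ψ h → ∀ k : K,
      l * s k * l⁻¹ = s ⟨h * k * h⁻¹, hKn.conj_mem k k.2 h⟩ := by
    intro h l hl k
    have h1 := huniq ((MulAut.conj l).toMonoidHom.comp s) (s.comp (MulAut.conjNormal h : K ≃* K).toMonoidHom) (by
      intro k
      show π (l * s k * l⁻¹) = π (s (MulAut.conjNormal h k))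
      rw [map_mul, map_mul, map_inv, hs', hs', MulAut.conjNormal_apply, map_mul, map_mul, map_inv, hl])
    have h2 : l * s k * l⁻¹ = s (MulAut.conjNormal h k) := congrArg (fun f : K →* L => f k) h1
    rw [h2]
    congr 1
  have hc3 : ∀ y : L, (y * c) ^ 3 = y ^ 3 * c := cube_mul_c hd
  -- the lift of `t`
  obtain ⟨T0, hT0⟩ := hd.surj Pres.ht
  have hT5 : T0 ^ 5 = 1 ∨ T0 ^ 5 = c := by
    apply (hd.ker _).1
    rw [map_pow, hT0]
    exact SimpleHN.t_five
  obtain ⟨T, hT, hTT⟩ : ∃ T : L, π T = Pres.ht ∧ T ^ 5 = 1 := by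
    rcases hT5 with h | h
    · exact ⟨T0, hT0, h⟩
    · refine ⟨T0 * c, by rw [map_mul, hT0, pi_c hd, mul_one], ?_⟩
      rw [(show Commute T0 c from (hd.cen T0).symm).mul_pow 5, h]
      rw [c_pow_five hd, hd.sq]
  -- elements of order 5 over the same element are equal
  have h5 : ∀ a b : L, a ^ 5 = 1 → b ^ 5 = 1 → π a = π b → a = b := by
    intro a b ha hb hab
    rcases eq_or hd hab with h | h
    · exact h
    · exfalso
      rw [h, (show Commute b c from (hd.cen b).symm).mul_pow 5, hb, one_mul] at ha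
      rw [c_pow_five hd] at ha
      exact hd.ne ha
  -- the lift of `z`
  obtain ⟨Z0, hZ0⟩ := hd.surj (NormalH.ψ gz)
  have hZT : (Z0 * T) ^ 3 = 1 ∨ (Z0 * T) ^ 3 = c := by
    apply (hd.ker _).1
    rw [map_pow, map_mul, hZ0, hT, NormalH.ψ_gz]
    exact SimpleHN.z_t
  obtain ⟨Z, hZ, hZTT⟩ : ∃ Z : L, π Z = NormalH.ψ gz ∧ (Z * T) ^ 3 = 1 := by
    rcases hZT with h | h
    · exact ⟨Z0, hZ0, h⟩
    · refine ⟨Z0 * c, by rw [map_mul, hZ0, pi_c hd, mul_one], ?_⟩
      have : Z0 * c * T = Z0 * T * c := by rw [mul_assoc, hd.cen, ← mul_assoc]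
      rw [this, hc3, h, hd.sq]
  have hZZ : Z * Z = 1 := hz Z hZ
  have hZi : Z⁻¹ = Z := inv_eq_of_mul_eq_one_left hZZ
  set X := s ⟨gx, gx_mem⟩ with hX
  set Y := s ⟨gy, gy_mem⟩ with hY
  have hπX : π X = Pres.hx := by rw [hX, hs']; exact NormalH.ψ_gx
  have hπY : π Y = Pres.hy := by rw [hY, hs']; exact NormalH.ψ_gy
  have hπZ : π Z = Pres.hz := by rw [hZ]; exact NormalH.ψ_gz
  -- the relations
  have hRK := rels_H0
  let kx : K := ⟨gx, gx_mem⟩
  let ky : K := ⟨gy, gy_mem⟩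
  have hgz : gz⁻¹ = gz := inv_eq_of_mul_eq_one_left (by rw [← pow_two]; exact hRK.r7)
  have hzc : ∀ k : K, Z * s k * Z = s ⟨gz * k * gz⁻¹, hKn.conj_mem k k.2 gz⟩ := by
    intro k
    have := hconj gz Z hZ k
    rwa [hZi] at this
  have sone : ∀ k : K, (k : H0) = 1 → s k = 1 := by
    intro k hk
    rw [show k = 1 from Subtype.ext hk, map_one]
  have rels : Rels X Y Z := by
    constructor
    · have := sone (ky ^ 6) hRK.r1
      simpa only [map_mul, map_pow, map_inv] using this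
    · have := sone ((kx ^ 2) * ky * (kx ^ 2) * (ky⁻¹)) hRK.r2
      simpa only [map_mul, map_pow, map_inv] using this
    · have := sone ((kx⁻¹ * ky⁻¹ * kx * ky) ^ 3) hRK.r3
      simpa only [map_mul, map_pow, map_inv] using this
    · have := sone (((kx⁻¹) * (ky ^ 2) * kx * (ky ^ 3)) ^ 3) hRK.r4
      simpa only [map_mul, map_pow, map_inv] using this
    · have := sone ((kx * ky) ^ 8) hRK.r5
      simpa only [map_mul, map_pow, map_inv] using this
    · have := sone ((kx * ky * kx * (ky ^ 3)) ^ 4) hRK.r6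
      simpa only [map_mul, map_pow, map_inv] using this
    · rw [pow_two, hZZ]
    · -- `(Z X)² = (Z X Z) X`
      have h1 : (Z * X) ^ 2 = s (⟨gz * kx * gz⁻¹, hKn.conj_mem kx kx.2 gz⟩ * kx) := by
        rw [map_mul, ← hzc, pow_two]
        show Z * X * (Z * X) = Z * X * Z * X
        group
      rw [h1]
      apply sone
      show gz * gx * gz⁻¹ * gx = 1
      have h2 := hRK.r8
      rw [pow_two] at h2
      rw [hgz, ← h2]; group
    · -- `Z⁻¹ w⁻¹ Z w x⁻²`
      let w : K := ky * kx * ky * kx * (ky ^ 2) * kx * (ky⁻¹)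
      have h0 : Y * X * Y * X * (Y ^ 2) * X * (Y⁻¹) = s w := by
        simp only [w, map_mul, map_pow, map_inv]
        rfl
      rw [h0, ← map_inv, hZi, hzc]
      have hx2 : X ^ 2 = s (kx ^ 2) := by rw [map_pow]
      rw [hx2, ← map_inv, ← map_mul, ← map_mul]
      apply sone
      show gz * (w : H0)⁻¹ * gz⁻¹ * (w : H0) * (gx ^ 2)⁻¹ = 1
      have h2 := hRK.r9
      rw [hgz] at h2 ⊢
      exact h2
    · -- `Z (Z^v X)³`
      let v : K := (ky ^ 3) * kx * ky * kx * ky
      have h0 : (Y ^ 3) * X * Y * X * Y = s v := by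
        simp only [v, map_mul, map_pow]
        rfl
      rw [h0, ← map_inv]
      -- the lift of `z v⁻¹ z`
      let a : K := ⟨gz * (v⁻¹ : K) * gz⁻¹, hKn.conj_mem _ (v⁻¹ : K).2 gz⟩
      have ha : Z * s v⁻¹ * Z = s a := hzc v⁻¹
      -- the lift of `z v z`
      let b : K := ⟨gz * (v * kx * v⁻¹ : K) * gz⁻¹, hKn.conj_mem _ (v * kx * v⁻¹ : K).2 gz⟩
      have hb : Z * s (v * kx * v⁻¹) * Z = s b := hzc _
      have h3 : Z * (s v⁻¹ * Z * s v * X) ^ 3 = s (a * v * kx * v⁻¹ * b * v * kx) := by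
        have e : Z * (s v⁻¹ * Z * s v * X) ^ 3 =
            (Z * s v⁻¹ * Z) * s v * X * s v⁻¹ * (Z * (s v * X * s v⁻¹) * Z) * s v * X := by
          rw [pow_succ, pow_two]; group
        have e2 : s v * X * s v⁻¹ = s (v * kx * v⁻¹) := by
          show s v * s kx * s v⁻¹ = _
          rw [← map_mul, ← map_mul]
        rw [e, ha, e2, hb]
        simp only [map_mul]
        rfl
      rw [h3]
      apply sone
      have h4 := hRK.r10
      show gz * (v : H0)⁻¹ * gz⁻¹ * (v : H0) * gx * (v : H0)⁻¹ * (gz * ((v : H0) * gx * (v : H0)⁻¹) * gz⁻¹) *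
        (v : H0) * gx = 1
      have e5 : (v : H0) = (gy ^ 3) * gx * gy * gx * gy := rfl
      rw [← e5, pow_succ, pow_two] at h4
      rw [hgz, ← h4]
      group
  have hXT : (X⁻¹ * T * X) * T ^ 2 = 1 := by
    have h1 : X⁻¹ * T * X = (T ^ 2)⁻¹ := by
      apply h5
      · have : (X⁻¹ * T * X) ^ 5 = X⁻¹ * T ^ 5 * X := by
          have := conj_pow (a := X⁻¹) (b := T) (i := 5)
          rwa [inv_inv] at this
        rw [this, hTT]; group
      · rw [inv_pow, ← pow_mul, mul_comm, pow_mul, hTT, one_pow, inv_one]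
      · rw [map_mul, map_mul, map_inv, map_inv, map_pow, hπX, hT]
        exact mul_eq_one_iff_eq_inv.1 SimpleHN.x_t
    rw [h1, inv_mul_cancel]
  have hTY : T⁻¹ * Y⁻¹ * T * Y = 1 := by
    have h1 : Y⁻¹ * T * Y = T := by
      apply h5
      · have : (Y⁻¹ * T * Y) ^ 5 = Y⁻¹ * T ^ 5 * Y := by
          have := conj_pow (a := Y⁻¹) (b := T) (i := 5)
          rwa [inv_inv] at this
        rw [this, hTT]; group
      · exact hTT
      · rw [map_mul, map_mul, map_inv, hπY, hT]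
        have h2 := SimpleHN.t_y
        have h3 : Pres.ht⁻¹ * Pres.hy⁻¹ * Pres.ht * Pres.hy = Pres.ht⁻¹ * (Pres.hy⁻¹ * Pres.ht * Pres.hy) := by group
        rw [h3, inv_mul_eq_one] at h2
        exact h2.symm
    calc T⁻¹ * Y⁻¹ * T * Y = T⁻¹ * (Y⁻¹ * T * Y) := by group
      _ = 1 := by rw [h1, inv_mul_cancel]
  obtain ⟨F, hF1, hF2, hF3, hF4⟩ := Hom.exists_hom rels hTT hXT hTY hZTT
  refine false_of_section hd F (fun x => ?_)
  have h1 : π.comp F = MonoidHom.id _ := by
    apply MonoidHom.eq_of_eqOn_dense SimpleHN.closure_HN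
    rintro _ (rfl | rfl | rfl | rfl)
    · exact (congrArg π hF1).trans hπX
    · exact (congrArg π hF2).trans hπY
    · exact (congrArg π hF3).trans hπZ
    · exact (congrArg π hF4).trans hT
  exact congrArg (fun f : Cfsg.Spor.HN →* Cfsg.Spor.HN => f x) h1

end Cfsg.Agent.KFacts.MulHN

end

-- merged: Cfsg.Agent.KFacts.MulHNMain
section

/-!
# The Harada-Norton group has no perfect double cover (final form)
-/

set_option autoImplicit false

namespace Cfsg.Agent.KFacts.MulHNMain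

open Cfsg.Agent.KFacts.MulDef

universe u

theorem noDouble : NoDouble Cfsg.Spor.HN := MulHN.noDouble_of_simple Cfsg.Agent.S1701.result.1

theorem noDouble_of_iso {X : Type u} [Group X] (h : Cfsg.Spor.IsoHN X) : NoDouble X := by
  obtain ⟨e⟩ := h
  exact noDouble.congr e.symm

end Cfsg.Agent.KFacts.MulHNMain

end

-- merged: Cfsg.Agent.KFacts.MulY.M
section

/-!
# The Monster has no perfect double cover

* `noDouble_of_prel`: a group generated by elements with the relations `PRel` and universal for them has no perfect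
  double cover (a perfect central extension has kernel of exponent three, `Bimonster.Ext.cube_eq_one`).
* `noDouble_PM`: the presented group `PM`.
* `noDouble_monster`: the presented Monster, if it is isomorphic to `PM` (`Bimonster.monster_equiv_PM`).
-/

set_option autoImplicit false

namespace Cfsg.Agent.KFacts.MulY.M

open Cfsg Cfsg.Agent.Bimonster Cfsg.Agent.KFacts.MulDef

universe v

theorem noDouble_of_prel {P : Type v} [Group P] {x : ℕ → P} (hx : PRel x)
    (hgen : Subgroup.closure (nodes 14 x) = ⊤) (hU : Univ.{0} x) : NoDouble P := by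
  intro L _ _ π c hd
  have hE : Ext π := by
    refine ⟨hd.surj, fun k hk g => ?_⟩
    rcases (hd.ker k).1 hk with rfl | rfl
    · rw [one_mul, mul_one]
    · exact hd.cen g
  have h3 := hE.cube_eq_one fi_facts hd.perf hx hgen hU c ((hd.ker c).2 (Or.inr rfl))
  rw [pow_three', hd.sq, one_mul] at h3
  exact hd.ne h3

theorem noDouble_PM : NoDouble PM := noDouble_of_prel xM_prel xM_gen xM_univ

theorem noDouble_monster (h : Nonempty (Spor.Monster ≃* PM)) : NoDouble Spor.Monster := by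
  obtain ⟨e⟩ := h
  exact noDouble_PM.congr e.symm

end Cfsg.Agent.KFacts.MulY.M

end

-- merged: Cfsg.Agent.OddHalf.D9.MultAll.Spor
section

/-!
# The sporadic groups without perfect double cover: `SporND` of `MultOf`
-/

set_option autoImplicit false

namespace Cfsg.Agent.OddHalf.D9.MultAll.Spor

open Cfsg Cfsg.Agent.OddHalf.D9 Cfsg.Agent.KFacts.MulDef

universe u

theorem noDouble_Co2 : NoDouble Spor.Co2 :=
  Cfsg.Agent.KFacts.MulY.CoTwo.noDouble (Plug.McLLy.mcl _ ⟨MulEquiv.refl _⟩)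

theorem sporND : MultOf.SporND.{u} where
  m11 := fun _ _ ⟨e⟩ => Cfsg.Agent.KFacts.MulSpor.NoDbl.M11.congr e.symm
  m23 := fun _ _ ⟨e⟩ => Cfsg.Agent.KFacts.MulM23.Main.noDouble.congr e.symm
  m24 := fun _ _ ⟨e⟩ => Cfsg.Agent.KFacts.MulSpor.NoDbl.M24.congr e.symm
  j1 := fun _ _ ⟨e⟩ => Cfsg.Agent.KFacts.MulSpor.NoDbl.J1.congr e.symm
  j3 := Cfsg.Agent.KFacts.MulSpor.J3Iso.noDouble
  j4 := fun _ _ ⟨e⟩ => Cfsg.Agent.KFacts.MulSpor.NoDbl.J4.congr e.symm
  co2 := fun _ _ ⟨e⟩ => noDouble_Co2.congr e.symm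
  co3 := fun _ _ h => Cfsg.Agent.KFacts.MulSpor.CoThree.noDouble_of_iso h
  mcl := Plug.McLLy.mcl
  he := Plug.He.field
  on := fun _ _ ⟨e⟩ => (Cfsg.Agent.KFacts.MulSpor.ON.noDouble_of_simple Cfsg.Agent.S1699.result.1).congr e.symm
  ly := Plug.McLLy.ly
  fi23 := Plug.Fi23.field
  fi24 := fun _ _ h => Cfsg.Agent.KFacts.MulFi24.Final.noDouble_of_iso h
  hn := fun _ _ h => Cfsg.Agent.KFacts.MulHNMain.noDouble_of_iso h
  th := fun _ _ ⟨e⟩ => Cfsg.Agent.KFacts.MulSpor.Th.noDouble.congr e.symm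
  m := fun _ _ ⟨e⟩ =>
    (Cfsg.Agent.KFacts.MulY.M.noDouble_monster Cfsg.Agent.MonsterP.Equiv.equivM).congr e.symm

end Cfsg.Agent.OddHalf.D9.MultAll.Spor

end

-- merged: Cfsg.Agent.OddHalf.D9.Plug.E678
section

/-!
# D9, plug: `E₆(q)`, `E₇(q)`, `E₈(q)`
-/

set_option autoImplicit false

namespace Cfsg.Agent.OddHalf.D9.Plug.E678

open Subgroup Cfsg Cfsg.Agent.OddHalf.D9.Cut Cfsg.Agent.OddHalf.D9.MultOf Cfsg.Agent.OddHalf.D9.Plug.Base
open Cfsg.Agent.KFacts.MulDef Cfsg.Agent.KFacts.MulBound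

universe u

theorem two_eq_zero {F : Type} [Field F] [Fintype F] {a : ℕ} (ha : 1 ≤ a) (hF : Fintype.card F = 2 ^ a) :
    (2 : F) = 0 := by
  have h1 : (Fintype.card F : F) = 0 := FiniteField.cast_card_eq_zero F
  rw [hF] at h1
  push_cast at h1
  exact pow_eq_zero_iff (by omega) |>.1 h1

/-- field of `LieND` -/
theorem e6 : ∀ (F : Type) [Field F] [Fintype F] (a : ℕ), 1 ≤ a → Fintype.card F = 2 ^ a →
    NoDouble ↥(Lie.chevE6.group F) :=
  fun _ _ _ _ ha hF => Cfsg.Agent.KFacts.Mult.LacedE.noDouble_E6 _ (two_eq_zero ha hF)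

/-- field of `LieND` -/
theorem e7 : ∀ (F : Type) [Field F] [Fintype F] (a : ℕ), 1 ≤ a → Fintype.card F = 2 ^ a →
    NoDouble ↥(Lie.chevE7.group F) :=
  fun _ _ _ _ ha hF => Cfsg.Agent.KFacts.Mult.LacedE.noDouble_E7 _ (two_eq_zero ha hF)

/-- field of `LieND` -/
theorem e8 : ∀ (F : Type) [Field F] [Fintype F] (a : ℕ), 1 ≤ a → Fintype.card F = 2 ^ a →
    NoDouble ↥(Lie.chevE8.group F) :=
  fun _ _ _ _ ha hF => Cfsg.Agent.KFacts.Mult.LacedE.noDouble_E8 _ (two_eq_zero ha hF)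

end Cfsg.Agent.OddHalf.D9.Plug.E678

end

-- merged: Cfsg.Agent.KFacts.Mult.LacedA
section

/-!
# `PSL_m(q)`, `m ≥ 5`, `q` even, has no perfect double cover (helper827)
-/

set_option autoImplicit false
set_option linter.unusedSectionVars false

namespace Cfsg.Agent.KFacts.Mult.LacedA

open Matrix CoxeterSystem Cfsg.Agent.ChevalleyStructure.CoxeterGeom Cfsg.Agent.Tits.Roots Cfsg.Agent.Tits.Core
  Cfsg.Agent.Nodes.Reps Cfsg.Agent.Nodes.BNOf Cfsg.Agent.Nodes.RGDLib Cfsg.Agent.Nodes.RootsA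
  Cfsg.Agent.Nodes.RGDTypeA Cfsg.Agent.KFacts.ChevTwo Cfsg.Agent.KFacts.SLRow.TypeA Cfsg.Agent.KFacts.SLRow.Def
  Cfsg.Agent.KFacts.SLRow.Psl Cfsg.Agent.OddHalf.SL.Index Cfsg.Agent.KFacts.Mult.Laced
  Cfsg.Agent.KFacts.Mult.LacedEnd Cfsg.Agent.KFacts.MulDef Cfsg.Agent.KFacts.Mult.LacedRGD
open Cfsg.Agent.LieRecognition.BNCox (cA cA_apply)

variable {n : ℕ} {W : Type*} [Group W] (cs : CoxeterSystem (cA n) W) {A : Fin n → Fin n → ℤ}
  (h : IsCartan (cA n) A)

include cs h in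
theorem bf_rtA (a b : Fin (n + 1)) {c d : Fin (n + 1)} (hcd : c ≠ d) :
    Bf A (rtA a b) (rtA c d) = (if a = c then 1 else 0) - (if a = d then 1 else 0) - (if b = c then 1 else 0) +
      (if b = d then 1 else 0) := by
  have : Finite W := finite_W cs h
  rw [bf_eq_cpr (cs := cs) (h := h) (fun i j => (cA_ne i j).1) (fun i j => (cA_ne i j).2) _ (isRoot_rtA cs h hcd),
    Cfsg.Agent.Nodes.CommA.cpr_rtA cs h a b hcd]
  ring

theorem Q_rtA (hn : 4 ≤ n) {a b : Fin (n + 1)} (hab : a ≠ b) : Q cs h (rtA a b) := by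
  intro s hs h0
  obtain ⟨c, d, hcd, rfl⟩ := exists_of_isRoot cs h hs
  rw [bf_rtA cs h a b hcd] at h0
  have h1 : a ≠ c ∧ a ≠ d ∧ b ≠ c ∧ b ≠ d := by
    refine ⟨?_, ?_, ?_, ?_⟩ <;> (rintro rfl; split_ifs at h0 <;> simp_all)
  obtain ⟨e, he⟩ : ∃ e : Fin (n + 1), e ∉ ({a, b, c, d} : Finset (Fin (n + 1))) := by
    by_contra hcon
    push Not at hcon
    have h2 : (Finset.univ : Finset (Fin (n + 1))) ⊆ {a, b, c, d} := fun e _ => hcon e
    have h3 := Finset.card_le_card h2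
    rw [Finset.card_univ, Fintype.card_fin] at h3
    have h4 : ({a, b, c, d} : Finset (Fin (n + 1))).card ≤ 4 := Finset.card_le_four
    omega
  simp only [Finset.mem_insert, Finset.mem_singleton, not_or] at he
  obtain ⟨ha, hb, hc, hd⟩ := he
  refine ⟨rtA c e, isRoot_rtA cs h (Ne.symm hc), ?_, ?_⟩
  · rw [bf_rtA cs h c e hcd, if_pos rfl, if_neg hcd, if_neg hc, if_neg hd]; norm_num
  · rw [bf_rtA cs h c e hab, if_neg (Ne.symm h1.1), if_neg (Ne.symm h1.2.2.1), if_neg ha, if_neg hb]; norm_num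

/-- **`PSL_m(q)`, `m ≥ 5`, `q` even, has no perfect double cover.** -/
theorem noDouble_PSL {m : ℕ} (hm : 5 ≤ m) {F : Type*} [Field F] [Finite F] (h2 : (2 : F) = 0) :
    NoDouble (ProjectiveSpecialLinearGroup (Fin m) F) := by
  obtain ⟨n, rfl⟩ : ∃ n, m = n + 1 := ⟨m - 1, by omega⟩
  have : Fact (Nat.Prime 2) := ⟨Nat.prime_two⟩
  have : CharP F 2 := charP_two h2
  have two : ∀ t : F, t + t = 0 := CharTwo.add_self_eq_zero
  let cs : CoxeterSystem (cA n) (cA n).Group := (cA n).toCoxeterSystem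
  have hW : Finite (cA n).Group := finite_W cs (isCartan n)
  have D := data_PSL (F := F) two cs (isCartan n)
  have h01 : (⟨0, by omega⟩ : Fin (n + 1)) ≠ ⟨1, by omega⟩ := by
    intro e
    exact absurd (congrArg Fin.val e) (by norm_num)
  refine noDouble_of_root (rgd_psl (F := F) cs (isCartan n)) (sys (fun i j => (cA_ne i j).1) (fun i j => (cA_ne i j).2) D)
    h2 D.inj ?_ (fun i j => (cA_ne i j).1) (fun i j => (cA_ne i j).2) conn_cA (by rw [Fintype.card_fin]; omega)
    (G1_psl_eq_top _ _) (isRoot_rtA cs (isCartan n) h01) (Q_rtA cs (isCartan n) (by omega) h01)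
  intro x hx g
  constructor
  · rintro ⟨k, hk, rfl⟩
    obtain ⟨t, rfl⟩ := (mem_X_iff cs (isCartan n) hx k).1 hk
    exact ⟨t, rfl⟩
  · rintro ⟨t, rfl⟩
    exact ⟨_, (mem_X_iff cs (isCartan n) hx _).2 ⟨t, rfl⟩, rfl⟩

end Cfsg.Agent.KFacts.Mult.LacedA

end

-- merged: Cfsg.Agent.KFacts.Mult.OMinusLit
section

/-!
# `PΩ⁻_{2m}(q)`, `q` even, `m ≥ 4`: the literal field `ominus` of `OddHalf.D9.MultOf.LieND`
-/

set_option autoImplicit false

namespace Cfsg.Agent.KFacts.Mult.OMinusLit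

open Cfsg.Agent.KFacts.MulDef

/-- The literal field `ominus` of `LieND` (all `a ≥ 1`). -/
theorem ominus (F : Type) [Field F] [Fintype F] (a m : ℕ) (b c : F) (ha : 1 ≤ a) (hF : Fintype.card F = 2 ^ a)
    (hm : 4 ≤ m) (hbc : ∀ z₁ z₂ : F, z₁ ^ 2 + b * z₁ * z₂ + c * z₂ ^ 2 = 0 → z₁ = 0 ∧ z₂ = 0) :
    NoDouble (Cfsg.POmega F (Cfsg.quadFormMinus (m - 1) F b c)) := by
  by_cases h1 : a = 1
  · subst h1
    have hc : Nat.card F = 2 := by rw [Nat.card_eq_fintype_card, hF, pow_one]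
    exact OMinusTwoInst.noDouble_minus (m - 1) F b c hbc hc (by omega)
  · exact OMinus.ominus F a m b c (by omega) hF hm hbc

end Cfsg.Agent.KFacts.Mult.OMinusLit

end

-- merged: Cfsg.Agent.OddHalf.D9.MultAll.Lie
section

/-!
# The groups of Lie type in characteristic 2 without perfect double cover: `LieND` of `MultOf`
-/

set_option autoImplicit false

namespace Cfsg.Agent.OddHalf.D9.MultAll.Lie

open Cfsg Cfsg.Agent.OddHalf.D9 Cfsg.Agent.KFacts.MulDef

theorem charP_two {F : Type} [Field F] [Fintype F] {a : ℕ} (h : Fintype.card F = 2 ^ a) : CharP F 2 := by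
  haveI : Fact (Nat.Prime 2) := ⟨Nat.prime_two⟩
  exact charP_of_card_eq_prime_pow h

theorem lt_card {F : Type} [Field F] [Fintype F] {a k : ℕ} (h : Fintype.card F = 2 ^ a) (hk : k ≤ a) :
    2 ^ k ≤ Nat.card F := by
  rw [Nat.card_eq_fintype_card, h]
  exact Nat.pow_le_pow_right (by norm_num) hk

theorem l2 (F : Type) [Field F] [Fintype F] (a : ℕ) (ha : 3 ≤ a) (h : Fintype.card F = 2 ^ a) :
    NoDouble (Matrix.ProjectiveSpecialLinearGroup (Fin 2) F) := by
  haveI := charP_two h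
  exact Cfsg.Agent.KFacts.Mult.TypeA.noDouble_PSL (F := F) (by norm_num) (Or.inr (by
    have := lt_card h ha
    omega))

theorem l3 (F : Type) [Field F] [Fintype F] (a : ℕ) (ha : 3 ≤ a) (h : Fintype.card F = 2 ^ a) :
    NoDouble (Matrix.ProjectiveSpecialLinearGroup (Fin 3) F) := by
  haveI := charP_two h
  exact Cfsg.Agent.KFacts.Mult.TypeA.noDouble_PSL (F := F) (by norm_num) (Or.inr (by
    have := lt_card h ha
    omega))

theorem l (F : Type) [Field F] [Fintype F] (a n : ℕ) (ha : 1 ≤ a) (h : Fintype.card F = 2 ^ a) (hn : 4 ≤ n)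
    (h4 : n = 4 → 2 ≤ a) : NoDouble (Matrix.ProjectiveSpecialLinearGroup (Fin n) F) := by
  haveI := charP_two h
  by_cases ha2 : 2 ≤ a
  · exact Cfsg.Agent.KFacts.Mult.TypeA.noDouble_PSL (F := F) (by omega) (Or.inl ⟨hn, by
      have := lt_card h ha2
      omega⟩)
  · have hn5 : 5 ≤ n := by
      by_contra hcon
      exact ha2 (h4 (by omega))
    exact Cfsg.Agent.KFacts.Mult.LacedA.noDouble_PSL hn5 (Plug.E678.two_eq_zero ha h)

theorem g2 (F : Type) [Field F] [Fintype F] (a : ℕ) (ha : 3 ≤ a) (h : Fintype.card F = 2 ^ a) :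
    NoDouble ↥(Lie.chevG2.group F) := by
  haveI := charP_two h
  exact Cfsg.Agent.KFacts.Mult.Chev.noDouble_G2 F (by
    have := lt_card h ha
    omega)

theorem f4 (F : Type) [Field F] [Fintype F] (a : ℕ) (ha : 2 ≤ a) (h : Fintype.card F = 2 ^ a) :
    NoDouble ↥(Lie.chevF4.group F) := by
  haveI := charP_two h
  exact Cfsg.Agent.KFacts.Mult.Chev.noDouble_F4 F (by
    have := lt_card h ha
    omega)

theorem sp4 (F : Type) [Field F] [Fintype F] (a : ℕ) (ha : 2 ≤ a) (h : Fintype.card F = 2 ^ a) :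
    NoDouble (PSp 2 F) := by
  haveI := charP_two h
  exact Cfsg.Agent.KFacts.Mult.WittZ.noDouble_PSp (by
    have := lt_card h ha
    omega) le_rfl

theorem sp (F : Type) [Field F] [Fintype F] (a m : ℕ) (ha : 1 ≤ a) (h : Fintype.card F = 2 ^ a) (hm : 3 ≤ m)
    (h3 : m = 3 → 2 ≤ a) : NoDouble (PSp m F) := by
  haveI := charP_two h
  by_cases ha2 : 2 ≤ a
  · exact Cfsg.Agent.KFacts.Mult.WittZ.noDouble_PSp (by
      have := lt_card h ha2
      omega) (by omega)
  · obtain rfl : a = 1 := by omega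
    have hm4 : 4 ≤ m := by
      by_contra hcon
      exact ha2 (h3 (by omega))
    exact Cfsg.Agent.KFacts.Mult.SpTwo.noDouble_psp_two (by simpa using h) hm4

theorem lieND : MultOf.LieND where
  l2 := l2
  l3 := l3
  l := l
  u3 := Cfsg.Agent.KFacts.Mult.Unitary.u3
  u4 := Cfsg.Agent.KFacts.Mult.Unitary.u4
  u5 := by
    intro F _ _ a ha hF
    by_cases ha2 : 2 ≤ a
    · exact Cfsg.Agent.KFacts.Mult.Unitary.u5 F a ha2 hF
    · obtain rfl : a = 1 := by omega
      rw [pow_one] at hF ⊢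
      exact Cfsg.Agent.KFacts.Mult.UnitTwo.noDouble_psu (by rw [hF]; norm_num) (Or.inl rfl)
  u := by
    intro F _ _ a n ha hF hn h6
    by_cases ha2 : 2 ≤ a
    · exact Cfsg.Agent.KFacts.Mult.Unitary.u F a n ha2 hF hn
    · obtain rfl : a = 1 := by omega
      rw [pow_one] at hF ⊢
      have hn7 : 7 ≤ n := by
        by_contra hcon
        exact ha2 (h6 (by omega))
      exact Cfsg.Agent.KFacts.Mult.UnitTwo.noDouble_psu (by rw [hF]; norm_num) (Or.inr hn7)
  sp4 := sp4
  sp := sp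
  oplus := Cfsg.Agent.KFacts.Mult.LacedDRow.oplus
  ominus := Cfsg.Agent.KFacts.Mult.OMinusLit.ominus
  g2 := g2
  f4 := f4
  e6 := Plug.E678.e6
  e7 := Plug.E678.e7
  e8 := Plug.E678.e8
  e62 := Cfsg.Agent.KFacts.Mult.TwESixBig.e62
  d43 := Cfsg.Agent.KFacts.Mult.ThreeD4Big.d43
  f42 := Cfsg.Agent.KFacts.Mult.TwFFour.noDouble
  tits := Cfsg.Agent.KFacts.OddLift.Tits.noDouble_tits

end Cfsg.Agent.OddHalf.D9.MultAll.Lie

end

-- merged: Cfsg.Agent.OddHalf.D9.Plug.L34
section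

/-!
# D9, plug: `L₃(4)`
-/

set_option autoImplicit false

namespace Cfsg.Agent.OddHalf.D9.Plug.L34

open Subgroup Cfsg Cfsg.Agent.OddHalf.D9.Cut Cfsg.Agent.OddHalf.D9.MultOf Cfsg.Agent.OddHalf.D9.Plug.Base
open Cfsg.Agent.KFacts.MulDef Cfsg.Agent.KFacts.MulBound

universe u

/-- field of `FourRows` -/
theorem field : Bd.{u} 4 (fun X _ => XL34 X) := by
  rintro K _ hK ⟨F, _, _, hF, ⟨e⟩⟩
  have := hK.1
  exact Cfsg.Agent.OddHalf.D9.L34Mult.card_cyclic hK.2.1.1.commutator_eq_top hK.2.2.1 hF e hK.2.2.2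

end Cfsg.Agent.OddHalf.D9.Plug.L34

end

-- merged: Cfsg.Agent.OddHalf.D9.MultAll.Four
section

/-!
# The rows `L₃(4)` and `M₂₂` of `MultOf`
-/

set_option autoImplicit false

namespace Cfsg.Agent.OddHalf.D9.MultAll.Four

open Cfsg.Agent.OddHalf.D9

universe u

theorem fourRows : MultOf.FourRows.{u} where
  l34 := Plug.L34.field
  m22 := Cfsg.Agent.KFacts.MulM22.Row.bd_m22

end Cfsg.Agent.OddHalf.D9.MultAll.Four

end

-- merged: Cfsg.Agent.OddHalf.D9.MultAll
section

/-!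
# The 2-parts of the multipliers: `Cut.Mult`

`mult_of` needs the rows which have not landed yet; `mult` will be the unconditional form.
-/

set_option autoImplicit false

namespace Cfsg.Agent.OddHalf.D9.MultAll

universe u

theorem mult_of (two : Two.Missing.{u}) : Cut.Mult.{u} :=
  MultOf.mult_of Spor.sporND Lie.lieND (Two.twoRows_of two) Four.fourRows

end Cfsg.Agent.OddHalf.D9.MultAll

end
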