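import Cfsg.Agent.OddHalf.D9.Cut
import Cfsg.Agent.OddHalf.D9.DoubleKill
import Cfsg.Agent.OddHalf.Front.FE
import Cfsg.Agent.OddHalf.D9.L34.OutK
import Cfsg.Agent.OddHalf.D9.L34.InnerFacts
import Cfsg.Agent.OddHalf.D9.L34.Exists
import Cfsg.Agent.OddHalf.Soft
import Cfsg.Agent.OddHalf.D9.Co1.Facts
import Cfsg.Agent.OddHalf.D9.Amb
import Cfsg.Agent.OddHalf.UQ4
import Cfsg.Agent.KFacts.MulCo.CoZero
import Cfsg.Agent.ConwayFacts.AutCo1
import Cfsg.Agent.KFacts.MulSpor.TwoAnRow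
import Cfsg.Agent.OddHalf.D9.TwoM12.KFacts
import Cfsg.Agent.OddHalf.D9.FFour.Inv
import Cfsg.Agent.FourTwo.CentK
import Cfsg.Agent.FourTwo.Perf
import Cfsg.Agent.OddHalf.D9.FFour.Def
import Cfsg.Agent.OddHalf.D9.M12Glue
import Cfsg.Agent.OddHalf.D9.G24.Row
import Cfsg.Agent.OddHalf.D9.FFour.SysOf
import Cfsg.Agent.OddHalf.D9.FFour.Out
import Cfsg.Agent.OddHalf.D9.J2.Row
import Cfsg.Agent.OddHalf.D9.OuterOf
import Cfsg.Agent.KFacts.SuzOut
import Cfsg.Agent.SporRec.SuzCl.Inv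
import Cfsg.Agent.KFacts.SuzLift.Two
import Cfsg.Agent.KFacts.SuzLFour
import Cfsg.Agent.KFacts.SuzInvol
import Cfsg.Agent.OddHalf.D9.G24.OutMain
import Cfsg.Agent.OddHalf.D9.M22.RowFour
import Cfsg.Agent.OddHalf.D9.M22.EDataM22
import Cfsg.Agent.OddHalf.D9.M22.RowTwo
import Cfsg.Agent.OddHalf.D9.M22.PDataM22
import Cfsg.Agent.OddHalf.D9.EEight.RowFinal
import Cfsg.Agent.OddHalf.D9.Plug.Ru
import Cfsg.Agent.OddHalf.D9.MultAll

-- merged: Cfsg.Agent.OddHalf.D9.RowKFacts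
section

/-!
# D9: the frame of a standard component with even centre; the row from `DoubleKill.KFacts`
-/

set_option autoImplicit false

namespace Cfsg.Agent.OddHalf.D9.RowKFacts

open Subgroup Cfsg Cfsg.Agent.OddHalf.Iface
open Cfsg.Agent.OddHalf.Front.FE (Start0 exists_start0)

universe u

variable {G : Type u} [Group G]

/-- **The frame**: `z` an involution of `Z(K)`. Then `C(K)` is a cyclic 2-group `⟨q⟩ ∋ z` and `K` is normal in `C(z)`. -/
theorem exists_frame (C : Ctx G) {K : Subgroup G} (S : Std0 G K) (hc : Cyc K) {z : G} (hzK : z ∈ K)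
    (hzz : z * z = 1) (hz1 : z ≠ 1) (hzc : ∀ k ∈ K, k * z = z * k) :
    ∃ q : G, Start0 K z q := by
  have := C.fin
  obtain ⟨t, q, h⟩ := exists_start0 C S hc
  have hzt : z ∈ zpowers q := h.cK z (h.Kt z hzK) hzc
  have h1 := h.uniq hzt hzz hz1
  subst h1
  exact ⟨q, h⟩

/-- The row of a double cover `K` with `KFacts`. -/
theorem false_of_kfacts (C : Ctx G) {K : Subgroup G} (S : Std0 G K) (hc : Cyc K) {z : ↥K} {n : ℕ}
    (F : DoubleKill.KFacts z n) : False := by
  have := C.fin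
  have := C.simple
  have hzc : ∀ k ∈ K, k * (z : G) = z * k := fun k hk => congrArg Subtype.val (F.zc ⟨k, hk⟩)
  obtain ⟨q, h⟩ := exists_frame C S hc z.2 (congrArg Subtype.val F.zz)
    (fun h => F.z1 (Subtype.ext h)) hzc
  refine DoubleKill.false_of_kfacts (z := (z : G)) (n := n) z.2 F C.na ?_ ?_
  · intro g hg k hk
    exact (mem_normalizer_iff.1 (h.nK g hg) k).1 hk
  · intro r hr hrr
    by_cases h1 : r = 1
    · exact Or.inl h1
    · right
      have h2 : r ∈ zpowers q := h.cK r (hr z z.2) (fun x hx => (hr x hx).symm)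
      exact h.uniq h2 hrr h1

end Cfsg.Agent.OddHalf.D9.RowKFacts

end

-- merged: Cfsg.Agent.OddHalf.D9.L34.Row
section

/-!
# D9: the row `K = 2.L3(4)`
-/

set_option autoImplicit false

namespace Cfsg.Agent.OddHalf.D9.L34.Row

open Subgroup Cfsg Cfsg.Agent.OddHalf.Iface

universe u

/-- the facts about a perfect group `K` with `|Z(K)| = 2` and `K / Z(K) = L3(4)` -/
theorem exists_kfacts {K : Type*} [Group K] [Finite K] (hZ2 : Nat.card (center K) = 2)
    (hperf : commutator K = ⊤) {F : Type*} [Field F] [Fintype F] (hF : Fintype.card F = 4)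
    (e : K ⧸ center K ≃* Matrix.ProjectiveSpecialLinearGroup (Fin 3) F) :
    ∃ z : K, DoubleKill.KFacts z 32 := by
  obtain ⟨A, -, -, -⟩ := exists_cov hZ2 hperf hF e
  obtain ⟨D⟩ := LThreeFour.exists_dat hF e
  exact ⟨A.z, kfacts_of A (OutK.el hperf D) (OutK.out A) (OutK.exp2 A)⟩

/-- **The row `2.L3(4)`.** -/
theorem row : Cut.Row.{u} (fun K _ => Cut.Two (fun X _ => Cut.XL34 X) K) := by
  intro G _ C K S hc hK
  have := C.fin
  obtain ⟨h2, F, iF, iFF, hF, ⟨e⟩⟩ := hK
  obtain ⟨t, -, hcomp⟩ := S.comp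
  obtain ⟨z, hz⟩ := exists_kfacts h2 (Soft.CompOf.quasisimple hcomp).1.commutator_eq_top hF e
  exact RowKFacts.false_of_kfacts C S hc hz

end Cfsg.Agent.OddHalf.D9.L34.Row

end

-- merged: Cfsg.Agent.OddHalf.D9.Co1.Row
section

/-!
# D9, row `2.Co1`

`row`: no standard component `K` with `|Z(K)| = 2`, `K/Z(K) ≅ Co1` and `C(K)` with cyclic Sylow 2-subgroups.
-/

set_option autoImplicit false

namespace Cfsg.Agent.OddHalf.D9.Co1.Row

open Subgroup Cfsg Cfsg.Agent.OddHalf.Iface Cfsg.Agent.OddHalf.Front.FE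
open Cfsg.Agent.SporadicA.Co0Mono Cfsg.Agent.SporadicA.Co1Simple
open Cfsg.Agent.OddHalf.D9.Isolated (Cfg)
open Cfsg.Agent.OddHalf.D9.Co1.Facts (ζ)

universe u

/-- An isolated involution in a simple group. -/
theorem false_of_isolated {G : Type u} [Group G] [Finite G] [IsSimpleGroup G]
    (hna : ¬ IsMulCommutative G) {z : G} (hz1 : z ≠ 1) (hzz : z * z = 1)
    (h : ∀ g : G, (g * z * g⁻¹) * z = z * (g * z * g⁻¹) → g * z * g⁻¹ = z) : False := by
  rcases UQ4.zstar hz1 hzz with ⟨g, h1, h2⟩ | ⟨N, hN, hodd, hc⟩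
  · exact h1 (h g h2)
  · rcases hN.eq_bot_or_eq_top with h1 | h1
    · have hcen : z ∈ center G := by
        rw [mem_center_iff]
        intro g
        have h2 := hc g
        rw [h1, mem_bot, mul_inv_eq_one, mul_inv_eq_iff_eq_mul] at h2
        exact h2.symm
      have hn : (center G).Normal := inferInstance
      rcases hn.eq_bot_or_eq_top with h2 | h2
      · rw [h2, mem_bot] at hcen
        exact hz1 hcen
      · apply hna
        refine ⟨⟨fun a b => ?_⟩⟩
        have : b ∈ center G := by rw [h2]; trivial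
        exact mem_center_iff.1 this a
    · rw [h1, card_top] at hodd
      have h2 : orderOf z = 2 := by
        have : Fact (Nat.Prime 2) := ⟨Nat.prime_two⟩
        exact orderOf_eq_prime (by rw [pow_two, hzz]) hz1
      have h3 := orderOf_dvd_natCard z
      rw [h2] at h3
      exact (Nat.not_even_iff_odd.2 hodd) (even_iff_two_dvd.2 h3)

theorem row_of_equiv {G : Type u} [Group G] (C : Ctx G) {K : Subgroup G} (S : Std0 G K) (hc : Cyc K)
    (h2 : Nat.card ↥(center ↥K) = 2) (θ : ↥K ≃* Co0) : False := by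
  haveI := C.fin
  haveI := C.simple
  obtain ⟨z, q, H, hz, hz1, hr⟩ := Amb.exists_start C S hc h2
  have hθz : θ z = ζ := by
    have h1 : θ z ∈ center Co0 := by
      rw [mem_center_iff]
      intro g
      obtain ⟨k, rfl⟩ := θ.surjective g
      rw [← map_mul, ← map_mul, mem_center_iff.1 hz k]
    rcases (Cfsg.Agent.CoOneType.ClosingFacts.mem_center_iff _).1 h1 with h3 | h3
    · exact absurd ((map_eq_one_iff θ θ.injective).1 h3) hz1
    · exact h3
  let φ : Co0 →* G := K.subtype.comp θ.symm.toMonoidHom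
  have hφ : ∀ x, φ x = ((θ.symm x : ↥K) : G) := fun _ => rfl
  have hφζ : φ ζ = (z : G) := by rw [hφ, ← hθz, θ.symm_apply_apply]
  have cfg : Cfg ζ φ (zpowers q) := by
    refine ⟨?_, ?_, H.pQ, ?_, ?_, ?_, ?_⟩
    · intro a b h
      exact θ.symm.injective (Subtype.ext h)
    · rw [hφζ]; exact H.tQ
    · intro r hr s hs
      obtain ⟨a, rfl⟩ := mem_zpowers_iff.1 hr
      obtain ⟨b, rfl⟩ := mem_zpowers_iff.1 hs
      rw [← zpow_add, ← zpow_add, add_comm]
    · intro r hr hrr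
      by_cases h1 : r = 1
      · exact Or.inl h1
      · right
        rw [hφζ]
        exact H.uniq hr hrr h1
    · intro r hr k
      exact (H.QK r hr _ (θ.symm k).2).symm
    · intro c hcz
      rw [hφζ] at hcz
      have hn := H.nK c hcz
      -- the automorphism of `K` induced by `c`
      have hmap : ∀ k : ↥K, c * (k : G) * c⁻¹ ∈ K := fun k => (mem_normalizer_iff.1 hn _).1 k.2
      have hmap' : ∀ k : ↥K, c⁻¹ * (k : G) * c ∈ K := fun k => by
        rw [mem_normalizer_iff.1 hn]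
        have : c * (c⁻¹ * (k : G) * c) * c⁻¹ = k := by group
        rw [this]
        exact k.2
      let β : MulAut ↥K :=
        { toFun := fun k => ⟨c * k * c⁻¹, hmap k⟩
          invFun := fun k => ⟨c⁻¹ * k * c, hmap' k⟩
          left_inv := fun k => Subtype.ext (by
            show c⁻¹ * (c * (k : G) * c⁻¹) * c = k
            group)
          right_inv := fun k => Subtype.ext (by
            show c * (c⁻¹ * (k : G) * c) * c⁻¹ = k
            group)
          map_mul' := fun a b => Subtype.ext (by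
            show c * ((a : G) * b) * c⁻¹ = (c * a * c⁻¹) * (c * b * c⁻¹)
            group) }
      have hβ : ∀ k : ↥K, ((β k : ↥K) : G) = c * k * c⁻¹ := fun _ => rfl
      obtain ⟨s, hs⟩ := Cfsg.Agent.ConwayFacts.AutCo1.inner_Co0 ((θ.symm.trans β).trans θ)
      -- `c` acts as `θ⁻¹ s`
      have hact : ∀ k : ↥K, c * (k : G) * c⁻¹ = φ s * k * (φ s)⁻¹ := by
        intro k
        have h3 := hs (θ k)
        rw [MulEquiv.trans_apply, MulEquiv.trans_apply, MulEquiv.symm_apply_apply] at h3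
        have h4 : β k = θ.symm s * k * (θ.symm s)⁻¹ := by
          apply θ.injective
          rw [h3, map_mul, map_mul, map_inv, θ.apply_symm_apply]
        rw [← hβ, h4]
        rfl
      refine ⟨s, (φ s)⁻¹ * c, ?_, by group⟩
      apply hr
      intro k hk
      have h3 := hact ⟨k, hk⟩
      have h4 : c * k * c⁻¹ = φ s * k * (φ s)⁻¹ := h3
      have h5 : (φ s)⁻¹ * c * k = (φ s)⁻¹ * (c * k * c⁻¹) * c := by group
      rw [h5, h4]
      group
  apply false_of_isolated C.na (z := (z : G)) (fun h => hz1 (Subtype.ext h)) H.tt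
  intro g hg
  rw [← hφζ] at hg ⊢
  exact cfg.isolated Facts.facts g hg

/-- **The row `2.Co1` of D9.** -/
theorem row (hM : Cfsg.Agent.KFacts.MulDef.NoDouble M24) :
    Cut.Row.{u} (fun K _ => Cut.Two (fun X _ => Spor.IsoCo1 X) K) := by
  intro G _ C K S hc h
  obtain ⟨h2, ⟨e⟩⟩ := h
  haveI := C.fin
  let f : ↥K →* Spor.Co1 := e.toMonoidHom.comp (QuotientGroup.mk' (center ↥K))
  have hf : Function.Surjective f := e.surjective.comp (QuotientGroup.mk'_surjective _)
  have hker : f.ker = center ↥K := by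
    ext x
    rw [MonoidHom.mem_ker, ← QuotientGroup.eq_one_iff (N := center ↥K) x]
    show e (QuotientGroup.mk' (center ↥K) x) = 1 ↔ _
    exact map_eq_one_iff e e.injective
  obtain ⟨θ, -⟩ := Cfsg.Agent.KFacts.MulCo.CoZero.exists_equiv_co0 hM (Amb.commutator_eq_top S) hf
    hker.le (by rw [hker]; exact S.z2) (by
      rw [hker]
      intro h
      rw [h, card_bot] at h2
      omega)
  exact row_of_equiv C S hc h2 θ

end Cfsg.Agent.OddHalf.D9.Co1.Row

end

-- merged: Cfsg.Agent.OddHalf.D9.Co1.Final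
section

/-!
# D9: the row `2.Co1`, without hypotheses
-/

set_option autoImplicit false

namespace Cfsg.Agent.OddHalf.D9.Co1.Final

open Subgroup Cfsg Cfsg.Agent.OddHalf.Iface

universe u

/-- `M24` has no perfect double cover -/
theorem noDouble_m24 : Cfsg.Agent.KFacts.MulDef.NoDouble M24 :=
  fun _ _ _ π _ h => Cfsg.Agent.KFacts.MulSpor.M24.no_double h.toCtr π h.surj h.ker

/-- **The row `2.Co1` of D9**, the field `co1` of `Cut.Rows`. -/
theorem row : Cut.Row.{u} (fun K _ => Cut.Two (fun X _ => Spor.IsoCo1 X) K) := Row.row noDouble_m24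

end Cfsg.Agent.OddHalf.D9.Co1.Final

end

-- merged: Cfsg.Agent.OddHalf.D9.TwoM12.Row
section

/-!
# ODD, D9: the row `2.M12` (`D9.Cut.Rows.m12`)
-/

set_option autoImplicit false

namespace Cfsg.Agent.OddHalf.D9.TwoM12

open Cfsg Subgroup

universe u

/-- `helper277`'s facts -/
theorem ambFacts : Amb.Facts.{u} := by
  intro L _ _ hp h2 he c hc hc1
  obtain ⟨c', hc', hk⟩ := exists_kfacts hp h2 he
  obtain ⟨u, -, huu⟩ := (Nat.card_eq_two_iff' (1 : center L)).mp h2
  have h5 := huu ⟨c, hc⟩ (fun h => hc1 (congrArg Subtype.val h))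
  have h6 := huu ⟨c', hc'⟩ (fun h => hk.c1 (congrArg Subtype.val h))
  have h7 : c = c' := congrArg Subtype.val (h5.trans h6.symm)
  rw [h7]
  exact hk

/-- **The row `2.M12` of D9.** -/
theorem row : Cut.Row.{u} (fun K _ => Cut.Two (fun X _ => Spor.IsoM12 X) K) := Amb.row ambFacts

end Cfsg.Agent.OddHalf.D9.TwoM12

end

-- merged: Cfsg.Agent.OddHalf.D9.FFour.Bad
section

/-!
# The class of `f 44 * z` in `K = 2.F₄(2)`

`bad`: with `e = f 44 * z` and `P = C(e) = C(f 44)`: `P = O²(P)`, `e ∈ [Z(O₂(P)), P]`, `z ∉ [Z(O₂(P)), P]`.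
-/

set_option autoImplicit false

namespace Cfsg.Agent.OddHalf.D9.FFour.Bad

open Subgroup
open Cfsg.Agent.ChevalleyStructure.TwF4.Rel (refl)
open Cfsg.Agent.ChevalleyStructure.TwF4.Torus (all_of)
open Cfsg.Agent.ChevalleyStructure.F4TwU (posList mem_posList)
open Cfsg.Agent.FourTwo.Base (LL x wd wd_cons wd_nil n n_eq_wd n_conj)
open Cfsg.Agent.FourTwo.Comm (cmg comm_one)
open Cfsg.Agent.FourTwo.CentAll (isShort)
open Cfsg.Agent.FourTwo.Par (RG x_mem_RG RG_le wd_mem_RG normB conj_mem)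
open Cfsg.Agent.FourTwo.BN (U nf_unique')
open Cfsg.Agent.FourTwo.Cent (posP U_eq psP Ps cent_short)
open Cfsg.Agent.FourTwo.Perf (sylU coe_sylU)
open Cfsg.Agent.FourTwo.Classes (ec coe_ec coe_wd_eq_wel)
open Cfsg.Agent.FourTwo.UCode (lets mem_lets wel_lets)
open Cfsg.Agent.FourTwo.CentW (GG Y)
open Cfsg.Agent.OddHalf.D9.FFour.Def Cfsg.Agent.OddHalf.D9.FFour.Sys Cfsg.Agent.OddHalf.D9.FFour.Words
open Cfsg.Agent.OddHalf.D9.FFour.Inv

/-! ### facts in `LL` -/

/-- the roots of `Q` -/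
def qP (r : ℕ) : Bool := decide (33 ≤ r)

/-- the roots of `W` -/
def wP (r : ℕ) : Bool := decide (41 ≤ r)

theorem normB_q : normB psP qP = true := by decide +kernel

theorem U_le_Ps : U ≤ Ps := by
  rw [U_eq]
  refine RG_le fun r hr h => x_mem_RG hr ?_
  unfold posP at h
  unfold psP
  rw [decide_eq_true_eq] at h ⊢
  omega

theorem qP_le_U : RG qP ≤ U := by
  rw [U_eq]
  refine RG_le fun r hr h => x_mem_RG hr ?_
  unfold qP at h
  unfold posP
  rw [decide_eq_true_eq] at h ⊢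
  omega

/-- a normal 2-subgroup of `Ps` lies in `U` -/
theorem le_U {A : Subgroup LL} (hA : IsPGroup 2 ↥A) (hle : A ≤ Ps) (hn : ∀ g ∈ Ps, ∀ a ∈ A, g * a * g⁻¹ ∈ A) :
    A ≤ U := by
  have : Fact (Nat.Prime 2) := ⟨Nat.prime_two⟩
  have hU : (sylU : Subgroup LL) ≤ Ps := by rw [coe_sylU]; exact U_le_Ps
  let V : Sylow 2 ↥Ps := sylU.subtype hU
  have hA' : IsPGroup 2 ↥(A.subgroupOf Ps) :=
    hA.comap_of_injective Ps.subtype Ps.subtype_injective
  obtain ⟨T, hT⟩ := hA'.exists_le_sylow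
  obtain ⟨g, hg⟩ := MulAction.exists_smul_eq ↥Ps T V
  intro a ha
  have h1 : (g⁻¹ : LL) * a * (g⁻¹ : LL)⁻¹ ∈ A := hn _ (inv_mem g.2) a ha
  have h2 : (⟨(g⁻¹ : LL) * a * (g⁻¹ : LL)⁻¹, hle h1⟩ : ↥Ps) ∈ (T : Subgroup ↥Ps) := hT h1
  have h3 : g * (⟨(g⁻¹ : LL) * a * (g⁻¹ : LL)⁻¹, hle h1⟩ : ↥Ps) * g⁻¹ ∈ (V : Subgroup ↥Ps) := by
    rw [← hg, Sylow.coe_subgroup_smul]
    exact ⟨_, h2, by simp [MulAut.conj_apply]⟩
  have h4 : g * (⟨(g⁻¹ : LL) * a * (g⁻¹ : LL)⁻¹, hle h1⟩ : ↥Ps) * g⁻¹ = ⟨a, hle ha⟩ := by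
    apply Subtype.ext
    show (g : LL) * ((g : LL)⁻¹ * a * (g : LL)⁻¹⁻¹) * (g : LL)⁻¹ = a
    group
  rw [h4] at h3
  exact h3

theorem z47_tab : ((List.range 48).all fun r => decide (r < 24) || cmg r 47 == []) = true := by decide +kernel

/-- `x 47` is central in `U` -/
theorem comm47 {u : LL} (hu : u ∈ U) : u * x 47 = x 47 * u := by
  rw [← mem_centralizer_singleton_iff]
  revert u
  show U ≤ centralizer {x 47}
  rw [U_eq]
  refine RG_le fun r hr h => ?_
  unfold posP at h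
  rw [decide_eq_true_eq] at h
  have h1 := all_of z47_tab hr
  rw [Bool.or_eq_true, decide_eq_true_eq, beq_iff_eq] at h1
  rw [mem_centralizer_singleton_iff]
  exact comm_one hr (by norm_num) (by omega) (h1.resolve_left (by omega))

theorem coe_comm {g : LL} {r : ℕ} (h : g * x r = x r * g) :
    (g : GG) * Y r = Y r * (g : GG) := by
  have h1 := congrArg (Subtype.val) h
  exact h1

/-- `C_L(x₃₃, …, x₄₀) ≤ W` -/
theorem mem_W {g : LL} (h : ∀ k, k < 8 → g * x (33 + k) = x (33 + k) * g) : g ∈ RG wP := by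
  obtain ⟨a, -, e⟩ := Cfsg.Agent.FourTwo.CentC.centC g.2 fun k hk => coe_comm (h k hk)
  have e1 : g = ec (a * 2 ^ 17) := Subtype.ext e
  have e2 : ec (a * 2 ^ 17) = wd ((lets (a * 2 ^ 17)).map fun j => 24 + j) := by
    apply Subtype.ext
    rw [coe_wd_eq_wel, coe_ec, wel_lets]
  rw [e1, e2]
  refine wd_mem_RG fun r hr => ?_
  obtain ⟨c, hc, rfl⟩ := List.mem_map.1 hr
  rw [mem_lets, Nat.testBit_mul_two_pow] at hc
  simp only [Bool.and_eq_true, decide_eq_true_eq] at hc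
  unfold wP
  rw [decide_eq_true_eq]
  omega

section

variable {K : Type*} [Group K] (S : Sys K)

/-- `P = C(f 44)` -/
def P : Subgroup K := centralizer {S.f 44}

theorem mem_P {k : K} : k ∈ P S ↔ k * S.f 44 = S.f 44 * k := mem_centralizer_singleton_iff

theorem cent_eq : centralizer {S.f 44 * S.z} = P S := by
  ext k
  rw [mem_centralizer_singleton_iff, mem_P, ← mul_assoc, mul_assoc (S.f 44) S.z k, ← S.zc k, ← mul_assoc]
  exact mul_left_inj _

theorem π_mem {k : K} : k ∈ P S ↔ S.π k ∈ Ps := by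
  rw [mem_P, ← cent_short, mem_centralizer_singleton_iff]
  constructor
  · intro h
    have h1 := congrArg S.π h
    rwa [map_mul, map_mul, S.fx 44 (by norm_num)] at h1
  · exact fun h => S.fc (by norm_num) h

theorem f_mem {r : ℕ} (h1 : 15 ≤ r) (h2 : r < 48) : S.f r ∈ P S := by
  rw [π_mem, S.fx r h2]
  exact x_mem_RG h2 (by unfold psP; rw [decide_eq_true_eq]; exact h1)

theorem z_mem : S.z ∈ P S := (mem_P S).2 (S.zc _).symm

/-- the generators of `P` -/
def PG : Subgroup K := closure {y | ∃ r, 15 ≤ r ∧ r < 48 ∧ y = S.f r}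

theorem exists_PG {k : K} (hk : k ∈ P S) : ∃ k' ∈ PG S, k = k' ∨ k = k' * S.z := by
  rw [π_mem] at hk
  have h : Ps ≤ (PG S).map S.π := by
    refine RG_le fun r hr hp => ?_
    unfold psP at hp
    rw [decide_eq_true_eq] at hp
    exact ⟨S.f r, subset_closure ⟨r, hp, hr, rfl⟩, S.fx r hr⟩
  obtain ⟨k', hk', e⟩ := h hk
  exact ⟨k', hk', S.eq_or e.symm⟩

/-- subgroups normalised by `P` -/
theorem norm {A : Subgroup K} (hA : ∀ r, 15 ≤ r → r < 48 → ∀ a ∈ A, S.f r * a * (S.f r)⁻¹ ∈ A) {k a : K}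
    (hk : k ∈ P S) (ha : a ∈ A) : k * a * k⁻¹ ∈ A := by
  have key : ∀ k' ∈ PG S, (∀ a ∈ A, k' * a * k'⁻¹ ∈ A) ∧ (∀ a ∈ A, k'⁻¹ * a * k' ∈ A) := by
    intro k' hk'
    unfold PG at hk'
    induction hk' using closure_induction with
    | mem y hy =>
      obtain ⟨r, h1, h2, rfl⟩ := hy
      refine ⟨hA r h1 h2, fun a ha => ?_⟩
      have h3 := hA r h1 h2 a ha
      have h4 := S.f_inv h2
      have h5 : (S.f r)⁻¹ * a * S.f r = S.f r * a * (S.f r)⁻¹ := by rw [h4]
      rwa [h5]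
    | one => simp
    | mul y y' _ _ h h' =>
      refine ⟨fun a ha => ?_, fun a ha => ?_⟩
      · have e : y * y' * a * (y * y')⁻¹ = y * (y' * a * y'⁻¹) * y⁻¹ := by group
        rw [e]
        exact h.1 _ (h'.1 a ha)
      · have e : (y * y')⁻¹ * a * (y * y') = y'⁻¹ * (y⁻¹ * a * y) * y' := by group
        rw [e]
        exact h'.2 _ (h.2 a ha)
    | inv y _ h =>
      refine ⟨fun a ha => ?_, fun a ha => ?_⟩
      · have := h.2 a ha
        rwa [inv_inv]
      · have := h.1 a ha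
        rwa [inv_inv]
  obtain ⟨k', hk', rfl | rfl⟩ := exists_PG S hk
  · exact (key k hk').1 a ha
  · have e : k' * S.z * a * (k' * S.z)⁻¹ = k' * a * k'⁻¹ := by
      rw [mul_inv_rev, mul_assoc k', ← S.zc a]
      group
    rw [e]
    exact (key k' hk').1 a ha

/-! ### `P = O²(P)` -/

theorem o_tab : ((List.range 48).all fun r => decide (r < 15) || o1 [44] r || oz [44] r) = true := by decide +kernel

theorem o_z : (o1 [44] 40 && o1 [44] 33) = true := by decide +kernel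

theorem w44 : chk 60 [40, 33, 40, 33] [44] false = true := by decide +kernel

theorem oz44 : oz [44] 44 = true := by decide +kernel

theorem P_eq' : centralizer {fw S.f [44] * sg S false} = P S := by
  rw [fw_one, sg_false, mul_one]
  rfl

theorem z_mem_O2 : S.z ∈ O2 (P S) := by
  have h0 := o_z
  rw [Bool.and_eq_true] at h0
  have h1 := o1_spec S (by decide) h0.1 false
  have h2 := o1_spec S (by decide) h0.2 false
  have h3 := oz_spec S (by decide) oz44 false
  rw [P_eq'] at h1 h2 h3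
  have h4 := word_eq S w44
  rw [fw_one, sg_false, mul_one] at h4
  have h5 : S.f 44 ∈ O2 (P S) := by
    rw [← h4]
    simp only [fw_cons, fw_nil, mul_one]
    exact mul_mem h1 (mul_mem h2 (mul_mem h1 h2))
  have h6 := mul_mem (inv_mem h5) h3
  rwa [inv_mul_cancel_left] at h6

theorem P_le : P S ≤ O2 (P S) := by
  have h1 : PG S ≤ O2 (P S) := by
    unfold PG
    rw [closure_le]
    rintro _ ⟨r, h1, h2, rfl⟩
    have h3 := all_of o_tab h2
    rw [Bool.or_eq_true, Bool.or_eq_true, decide_eq_true_eq] at h3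
    rcases h3 with (h3 | h3) | h3
    · omega
    · have h4 := o1_spec S (by decide) h3 false
      rwa [P_eq'] at h4
    · have h4 := oz_spec S (by decide) h3 false
      rw [P_eq'] at h4
      have h5 := mul_mem h4 (inv_mem (z_mem_O2 S))
      rwa [mul_inv_cancel_right] at h5
  intro k hk
  obtain ⟨k', hk', rfl | rfl⟩ := exists_PG S hk
  · exact h1 hk'
  · exact mul_mem (h1 hk') (z_mem_O2 S)

/-! ### `O₂(P)` -/

theorem isPGroup_of_U {A : Subgroup K} (hA : ∀ a ∈ A, S.π a ∈ U) : IsPGroup 2 ↥A := by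
  have : Fact (Nat.Prime 2) := ⟨Nat.prime_two⟩
  intro a
  have hU : IsPGroup 2 ↥U := by
    have := sylU.2
    exact this
  obtain ⟨m, hm⟩ := hU ⟨S.π a, hA a a.2⟩
  have h1 : S.π (a : K) ^ 2 ^ m = 1 := congrArg (fun t : ↥U => (t : LL)) hm
  rw [← map_pow] at h1
  refine ⟨m + 1, Subtype.ext ?_⟩
  show (a : K) ^ 2 ^ (m + 1) = 1
  rw [pow_succ, pow_mul]
  rcases (S.ker _).1 h1 with h2 | h2
  · rw [h2, one_pow]
  · rw [h2, pow_two, S.zz]

theorem In2_of {y : K} (hy : S.π y ∈ RG qP) : In2 (P S) y := by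
  have h0 : y ∈ P S := by
    rw [π_mem]
    exact U_le_Ps (qP_le_U hy)
  refine ⟨h0, isPGroup_of_U S fun a ha => ?_⟩
  have h1 : closure {b : K | ∃ p ∈ P S, b = p * y * p⁻¹} ≤ (RG qP).comap S.π := by
    rw [closure_le]
    rintro _ ⟨p, hp, rfl⟩
    show S.π (p * y * p⁻¹) ∈ RG qP
    rw [map_mul, map_mul, map_inv]
    exact conj_mem normB_q ((π_mem S).1 hp) hy
  exact qP_le_U (h1 ha)

theorem In2_f {r : ℕ} (h1 : 33 ≤ r) (h2 : r < 48) : In2 (P S) (S.f r) :=
  In2_of S (by rw [S.fx r h2]; exact x_mem_RG h2 (by unfold qP; rw [decide_eq_true_eq]; exact h1))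

theorem In2_U {y : K} (hy : In2 (P S) y) : S.π y ∈ U := by
  set Y := closure {b : K | ∃ p ∈ P S, b = p * y * p⁻¹} with hY
  have h1 : Y ≤ P S := by
    rw [hY, closure_le]
    rintro _ ⟨p, hp, rfl⟩
    exact mul_mem (mul_mem hp hy.1) (inv_mem hp)
  have hn : ∀ p ∈ P S, ∀ a ∈ Y, p * a * p⁻¹ ∈ Y := by
    intro p hp a ha
    have h2 : Y ≤ Y.comap (MulAut.conj p).toMonoidHom := by
      nth_rw 1 [hY]
      rw [closure_le]
      rintro _ ⟨q, hq, rfl⟩
      show p * (q * y * q⁻¹) * p⁻¹ ∈ Y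
      refine subset_closure ⟨p * q, mul_mem hp hq, ?_⟩
      group
    exact h2 ha
  have h3 : IsPGroup 2 ↥(Y.map S.π) := hy.2.map S.π
  have h4 : Y.map S.π ≤ U := by
    refine le_U h3 ?_ ?_
    · rintro _ ⟨a, ha, rfl⟩
      exact (π_mem S).1 (h1 ha)
    · rintro g hg _ ⟨a, ha, rfl⟩
      obtain ⟨p, rfl⟩ := S.surj g
      refine ⟨p * a * p⁻¹, hn p ((π_mem S).2 hg) a ha, ?_⟩
      rw [map_mul, map_mul, map_inv]
  refine h4 ⟨y, subset_closure ⟨1, one_mem _, ?_⟩, rfl⟩
  group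

theorem In2_conj {y p : K} (hy : In2 (P S) y) (hp : p ∈ P S) : In2 (P S) (p * y * p⁻¹) := by
  refine ⟨mul_mem (mul_mem hp hy.1) (inv_mem hp), ?_⟩
  have e : {b : K | ∃ q ∈ P S, b = q * (p * y * p⁻¹) * q⁻¹} = {b : K | ∃ q ∈ P S, b = q * y * q⁻¹} := by
    ext b
    constructor
    · rintro ⟨q, hq, rfl⟩
      exact ⟨q * p, mul_mem hq hp, by group⟩
    · rintro ⟨q, hq, rfl⟩
      exact ⟨q * p⁻¹, mul_mem hq (inv_mem hp), by group⟩
  rw [e]
  exact hy.2

/-- `f r` commutes with `O₂(P)` -/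
def Com (r : ℕ) : Prop := ∀ y, In2 (P S) y → y * S.f r = S.f r * y

theorem com47 : Com S 47 := fun y hy => S.fc (by norm_num) (comm47 (In2_U S hy))

theorem com_conj {r s : ℕ} {p : K} (hp : p ∈ P S) (h : p * S.f r * p⁻¹ = S.f s) (hr : Com S r) : Com S s := by
  intro y hy
  have h1 := hr (p⁻¹ * y * p⁻¹⁻¹) (In2_conj S hy (inv_mem hp))
  rw [← h]
  calc y * (p * S.f r * p⁻¹) = p * ((p⁻¹ * y * p⁻¹⁻¹) * S.f r) * p⁻¹ := by group
    _ = p * (S.f r * (p⁻¹ * y * p⁻¹⁻¹)) * p⁻¹ := by rw [h1]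
    _ = _ := by group

theorem com_step {i r s : ℕ} (hi : i < 4) (h1 : 15 ≤ Cfsg.Agent.ChevalleyStructure.TwF4.Rel.sp i)
    (h2 : 15 ≤ 47 - Cfsg.Agent.ChevalleyStructure.TwF4.Rel.sp i)
    (h3 : Cfsg.Agent.ChevalleyStructure.TwF4.Rel.sp i < 48) (hr : r < 48) (hs : s < 48)
    (hrs : refl i r = s) (hl : isShort r = isShort s) (h : Com S r) : Com S s := by
  set a := Cfsg.Agent.ChevalleyStructure.TwF4.Rel.sp i with ha
  refine com_conj S (p := S.f a * S.f (47 - a) * S.f a) (mul_mem (mul_mem (f_mem S h1 h3) (f_mem S h2 (by omega)))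
    (f_mem S h1 h3)) (S.conj hr hs hl ?_) h
  have e : S.π (S.f a * S.f (47 - a) * S.f a) = n i := by
    rw [map_mul, map_mul, S.fx a h3, S.fx _ (by omega), n_eq_wd, wd_cons, wd_cons, wd_cons, wd_nil, mul_one, mul_assoc]
  rw [e, n_conj hi hr, hrs]

theorem com46 : Com S 46 := com_step S (i := 3) (by norm_num) (by decide) (by decide) (by decide) (by norm_num)
  (by norm_num) (by decide) (by decide) (com47 S)

theorem com45 : Com S 45 := com_step S (i := 2) (by norm_num) (by decide) (by decide) (by decide) (by norm_num)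
  (by norm_num) (by decide) (by decide) (com46 S)

theorem com43 : Com S 43 := com_step S (i := 1) (by norm_num) (by decide) (by decide) (by decide) (by norm_num)
  (by norm_num) (by decide) (by decide) (com45 S)

theorem com42 : Com S 42 := com_step S (i := 2) (by norm_num) (by decide) (by decide) (by decide) (by norm_num)
  (by norm_num) (by decide) (by decide) (com43 S)

theorem com41 : Com S 41 := com_step S (i := 3) (by norm_num) (by decide) (by decide) (by decide) (by norm_num)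
  (by norm_num) (by decide) (by decide) (com42 S)

theorem Wz_of {r : ℕ} (h1 : 33 ≤ r) (h2 : r < 48) (h : Com S r) : Wz (P S) (S.f r) :=
  ⟨In2_f S h1 h2, fun y hy => (h y hy).symm⟩

/-! ### `e ∈ Phi` -/

theorem w41 : chk 60 [41, 29, 41, 29] [44, 47] true = true := by decide +kernel

theorem w46 : chk 60 [46, 24, 46, 24] [47] false = true := by decide +kernel

theorem comm_mem {w p : K} (hw : Wz (P S) w) (hp : p ∈ P S) : w * p * w⁻¹ * p⁻¹ ∈ Phi (P S) :=
  subset_closure ⟨w, p, hw, hp, rfl⟩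

theorem e_mem : S.f 44 * S.z ∈ Phi (P S) := by
  have h1 := comm_mem S (Wz_of S (by norm_num) (by norm_num) (com41 S)) (f_mem S (r := 29) (by norm_num) (by norm_num))
  have h2 := comm_mem S (Wz_of S (by norm_num) (by norm_num) (com46 S)) (f_mem S (r := 24) (by norm_num) (by norm_num))
  rw [S.f_inv (by norm_num), S.f_inv (by norm_num)] at h1 h2
  have e1 := word_eq S w41
  have e2 := word_eq S w46
  simp only [fw_cons, fw_nil, mul_one, sg_true, sg_false] at e1 e2
  have e1' : S.f 41 * S.f 29 * S.f 41 * S.f 29 = S.f 44 * S.f 47 * S.z := by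
    rw [← e1]
    simp only [mul_assoc]
  have e2' : S.f 46 * S.f 24 * S.f 46 * S.f 24 = S.f 47 := by
    rw [← e2]
    simp only [mul_assoc]
  rw [e1'] at h1
  rw [e2'] at h2
  have h3 := mul_mem h1 (inv_mem h2)
  have e3 : S.f 44 * S.f 47 * S.z * (S.f 47)⁻¹ = S.f 44 * S.z := by
    rw [mul_assoc, ← S.zc, ← mul_assoc, mul_inv_cancel_right]
  rwa [e3] at h3

/-! ### `z ∉ Phi` -/

/-- generators of the complement of `z` -/
def g (i : ℕ) : K := if i = 44 then S.f 44 * S.z else S.f i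

theorem π_g {i : ℕ} (hi : i < 48) : S.π (g S i) = x i := by
  unfold g
  split_ifs with h
  · rw [map_mul, S.π_z, mul_one, S.fx 44 (by norm_num), h]
  · exact S.fx i hi

theorem g_sq {i : ℕ} (hi : i < 48) : g S i * g S i = 1 := by
  unfold g
  split_ifs with h
  · calc S.f 44 * S.z * (S.f 44 * S.z) = S.f 44 * (S.z * S.f 44) * S.z := by simp only [mul_assoc]
      _ = S.f 44 * (S.f 44 * S.z) * S.z := by rw [S.zc (S.f 44)]
      _ = (S.f 44 * S.f 44) * (S.z * S.z) := by simp only [mul_assoc]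
      _ = 1 := by rw [S.ff 44 (by norm_num), S.zz, mul_one]
  · exact S.ff i hi

theorem cab_tab : ((List.range 48).all fun i => (List.range 48).all fun j => decide (i < 41) || decide (j < 41) ||
    cmg i j == []) = true := by decide +kernel

theorem g_comm {i j : ℕ} (h1 : 41 ≤ i) (h2 : i < 48) (h3 : 41 ≤ j) (h4 : j < 48) : g S i * g S j = g S j * g S i := by
  have key : S.f i * S.f j = S.f j * S.f i := by
    have h := all_of (all_of cab_tab h2) h4
    rw [Bool.or_eq_true, Bool.or_eq_true, decide_eq_true_eq, decide_eq_true_eq, beq_iff_eq] at h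
    refine comm0 S h2 h4 (by omega) ?_
    rcases h with (h | h) | h
    · omega
    · omega
    · exact h
  have hz : ∀ k : K, Commute k S.z := S.zcom
  have kc : Commute (S.f i) (S.f j) := key
  unfold g
  split_ifs with ha hb hb
  · rfl
  · subst ha
    exact kc.mul_left (hz _).symm
  · subst hb
    exact kc.mul_right (hz _)
  · exact kc

/-- the complement -/
def W0 : Subgroup K := closure {y | ∃ i, 41 ≤ i ∧ i < 48 ∧ y = g S i}

theorem g_mem {i : ℕ} (h1 : 41 ≤ i) (h2 : i < 48) : g S i ∈ W0 S := subset_closure ⟨i, h1, h2, rfl⟩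

theorem f_mem_W0 {i : ℕ} (h1 : 41 ≤ i) (h2 : i < 48) (h3 : i ≠ 44) : S.f i ∈ W0 S := by
  have h := g_mem S h1 h2
  unfold g at h
  rwa [if_neg h3] at h

/-- admissible commutators -/
def okc : List ℕ → Bool
  | [] => true
  | [t] => decide (41 ≤ t) && decide (t < 48) && t != 44
  | [t, u] => (t == 44 && decide (41 ≤ u) && decide (u < 48) && u != 44) ||
      (u == 44 && decide (41 ≤ t) && decide (t < 48) && t != 44)
  | _ => false

theorem okc_tab : ((List.range 48).all fun r => (List.range 48).all fun i => decide (r < 15) || decide (i < 41) ||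
    i == 44 || okc (cmg r i)) = true := by decide +kernel

theorem okc_mem {l : List ℕ} (h : okc l = true) : fw S.f l * sg S (l.length == 2) ∈ W0 S := by
  match l, h with
  | [], _ =>
    have : fw S.f [] * sg S (([] : List ℕ).length == 2) = 1 := by simp [fw, sg]
    rw [this]
    exact one_mem _
  | [t], h =>
    have : fw S.f [t] * sg S (([t] : List ℕ).length == 2) = S.f t := by simp [fw, sg]
    rw [this]
    unfold okc at h
    rw [Bool.and_eq_true, Bool.and_eq_true, decide_eq_true_eq, decide_eq_true_eq, bne_iff_ne] at h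
    exact f_mem_W0 S h.1.1 h.1.2 h.2
  | [t, u], h =>
    have : fw S.f [t, u] * sg S (([t, u] : List ℕ).length == 2) = S.f t * S.f u * S.z := by simp [fw, sg]
    rw [this]
    have h44 : S.f 44 * S.z ∈ W0 S := g_mem S (i := 44) (by norm_num) (by norm_num)
    unfold okc at h
    simp only [Bool.and_eq_true, Bool.or_eq_true, decide_eq_true_eq, bne_iff_ne, beq_iff_eq] at h
    rcases h with ⟨⟨⟨rfl, h1⟩, h2⟩, h3⟩ | ⟨⟨⟨rfl, h1⟩, h2⟩, h3⟩
    · have e : S.f 44 * S.f u * S.z = (S.f 44 * S.z) * S.f u := by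
        rw [mul_assoc, S.zc, ← mul_assoc]
      rw [e]
      exact mul_mem h44 (f_mem_W0 S h1 h2 h3)
    · rw [mul_assoc]
      exact mul_mem (f_mem_W0 S h1 h2 h3) h44

theorem W0_norm {r : ℕ} (h1 : 15 ≤ r) (h2 : r < 48) {a : K} (ha : a ∈ W0 S) : S.f r * a * (S.f r)⁻¹ ∈ W0 S := by
  have h : W0 S ≤ (W0 S).comap (MulAut.conj (S.f r)).toMonoidHom := by
    nth_rw 1 [W0]
    rw [closure_le]
    rintro _ ⟨i, h3, h4, rfl⟩
    show S.f r * g S i * (S.f r)⁻¹ ∈ W0 S
    by_cases h5 : i = 44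
    · subst h5
      have h6 : S.f r * g S 44 = g S 44 * S.f r := by
        have h7 : Commute (S.f r) (S.f 44) := (mem_P S).1 (f_mem S h1 h2)
        have h8 : Commute (S.f r) (S.f 44 * S.z) := h7.mul_right (S.zcom _)
        have h9 : g S 44 = S.f 44 * S.z := if_pos rfl
        rw [h9]
        exact h8
      rw [h6, mul_inv_cancel_right]
      exact g_mem S (by norm_num) (by norm_num)
    · have h6 : g S i = S.f i := if_neg h5
      rw [h6]
      by_cases h7 : r = i
      · subst h7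
        rw [mul_inv_cancel_right]
        exact f_mem_W0 S h3 h4 h5
      · have h8 := cm_all S h2 h4 h7 (by omega)
        rw [h8, mul_inv_cancel_right]
        refine mul_mem (f_mem_W0 S h3 h4 h5) (okc_mem S ?_)
        have h9 := all_of (all_of okc_tab h2) h4
        simp only [Bool.or_eq_true, decide_eq_true_eq, beq_iff_eq] at h9
        rcases h9 with ((h9 | h9) | h9) | h9
        · omega
        · omega
        · exact absurd h9 h5
        · exact h9
  exact h ha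

theorem P_norm_W0 {k a : K} (hk : k ∈ P S) (ha : a ∈ W0 S) : k * a * k⁻¹ ∈ W0 S :=
  norm S (fun _ h1 h2 _ ha => W0_norm S h1 h2 ha) hk ha

/-- normal form in an elementary abelian group generated by commuting involutions -/
theorem nf_ab {g : ℕ → K} : ∀ {L : List ℕ}, (∀ i ∈ L, ∀ j ∈ L, g i * g j = g j * g i) → (∀ i ∈ L, g i * g i = 1) →
    ∀ i ∈ L, ∀ T : List ℕ, T.Sublist L → ∃ T' : List ℕ, T'.Sublist L ∧ g i * (T.map g).prod = (T'.map g).prod
  | [], _, _, i, hi, _, _ => by simp at hi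
  | a :: L, hc, h2, i, hi, T, hT => by
    have hc' : ∀ i ∈ L, ∀ j ∈ L, g i * g j = g j * g i := fun i hi j hj =>
      hc i (List.mem_cons_of_mem _ hi) j (List.mem_cons_of_mem _ hj)
    have h2' : ∀ i ∈ L, g i * g i = 1 := fun i hi => h2 i (List.mem_cons_of_mem _ hi)
    rcases List.mem_cons.1 hi with rfl | hi'
    · cases hT with
      | cons _ h => exact ⟨i :: T, h.cons_cons i, by simp⟩
      | cons_cons _ h =>
        rename_i T0
        refine ⟨T0, h.cons _, ?_⟩
        rw [List.map_cons, List.prod_cons, ← mul_assoc, h2 i List.mem_cons_self, one_mul]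
    · cases hT with
      | cons _ h =>
        obtain ⟨T', hT', e⟩ := nf_ab hc' h2' i hi' T h
        exact ⟨T', hT'.cons _, e⟩
      | cons_cons _ h =>
        rename_i T0
        obtain ⟨T', hT', e⟩ := nf_ab hc' h2' i hi' T0 h
        refine ⟨a :: T', hT'.cons_cons a, ?_⟩
        rw [List.map_cons, List.prod_cons, List.map_cons, List.prod_cons, ← e, ← mul_assoc,
          hc i hi a List.mem_cons_self, mul_assoc]

theorem W0_nf {k : K} (hk : k ∈ W0 S) : ∃ T : List ℕ, T.Sublist [41, 42, 43, 44, 45, 46, 47] ∧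
    k = (T.map (g S)).prod := by
  have hL : ∀ i, i ∈ ([41, 42, 43, 44, 45, 46, 47] : List ℕ) ↔ 41 ≤ i ∧ i < 48 := by
    intro i
    simp only [List.mem_cons, List.not_mem_nil, or_false]
    omega
  have key : ∀ i, 41 ≤ i → i < 48 → ∀ T : List ℕ, T.Sublist [41, 42, 43, 44, 45, 46, 47] →
      ∃ T' : List ℕ, T'.Sublist [41, 42, 43, 44, 45, 46, 47] ∧ g S i * (T.map (g S)).prod = (T'.map (g S)).prod :=
    fun i h1 h2 T hT => nf_ab (fun i hi j hj => g_comm S ((hL i).1 hi).1 ((hL i).1 hi).2 ((hL j).1 hj).1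
      ((hL j).1 hj).2) (fun i hi => g_sq S ((hL i).1 hi).2) i ((hL i).2 ⟨h1, h2⟩) T hT
  unfold W0 at hk
  induction hk using closure_induction_left with
  | one => exact ⟨[], by simp, by simp⟩
  | mul_left y hy k _ ih =>
    obtain ⟨i, h1, h2, rfl⟩ := hy
    obtain ⟨T, hT, rfl⟩ := ih
    obtain ⟨T', hT', e⟩ := key i h1 h2 T hT
    exact ⟨T', hT', e⟩
  | inv_mul_cancel y hy k _ ih =>
    obtain ⟨i, h1, h2, rfl⟩ := hy
    obtain ⟨T, hT, rfl⟩ := ih
    obtain ⟨T', hT', e⟩ := key i h1 h2 T hT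
    refine ⟨T', hT', ?_⟩
    rw [← e]
    congr 1
    rw [inv_eq_iff_mul_eq_one, g_sq S h2]

theorem sub_tab : (([41, 42, 43, 44, 45, 46, 47] : List ℕ).sublists.all fun T =>
    decide (T = (posList 24).filter fun r => T.contains r)) = true := by decide +kernel

theorem z_not_mem_W0 : S.z ∉ W0 S := by
  intro hz
  obtain ⟨T, hT, e⟩ := W0_nf S hz
  have hlt : ∀ r ∈ T, r < 48 := by
    intro r hr
    have h := hT.subset hr
    simp only [List.mem_cons, List.not_mem_nil, or_false] at h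
    omega
  have h1 : wd T = 1 := by
    have h2 := congrArg S.π e
    rw [S.π_z, map_list_prod, List.map_map] at h2
    rw [h2]
    unfold wd
    congr 1
    apply List.map_congr_left
    intro r hr
    exact (π_g S (hlt r hr)).symm
  have h3 : T = (posList 24).filter fun r => T.contains r := by
    have h := sub_tab
    rw [List.all_eq_true] at h
    have h4 := h T (List.mem_sublists.2 hT)
    rwa [decide_eq_true_eq] at h4
  have h5 : T = [] := by
    rw [List.eq_nil_iff_forall_not_mem]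
    intro r hr
    have h6 : wd ((posList 24).filter fun r => T.contains r) = wd ((posList 24).filter fun _ => false) := by
      rw [← h3, h1]
      have : ((posList 24).filter fun _ => false) = [] := List.filter_false _
      rw [this, wd_nil]
    have h7 := hT.subset hr
    simp only [List.mem_cons, List.not_mem_nil, or_false] at h7
    have h8 := nf_unique' h6 r (by omega) (by omega)
    simp only [List.contains_eq_mem, decide_eq_false_iff_not] at h8
    exact h8 hr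
  rw [h5] at e
  exact S.ne e

/-- `Z(O₂(P)) ≤ W0 × ⟨z⟩` -/
theorem Wz_le {w : K} (hw : Wz (P S) w) : ∃ w0 ∈ W0 S, w = w0 ∨ w = w0 * S.z := by
  have h1 : S.π w ∈ RG wP := by
    refine mem_W fun k hk => ?_
    have h2 := hw.2 (S.f (33 + k)) (In2_f S (by omega) (by omega))
    have h3 := congrArg S.π h2
    rwa [map_mul, map_mul, S.fx _ (by omega)] at h3
  have h2 : RG wP ≤ (W0 S).map S.π := by
    refine RG_le fun r hr hp => ?_
    unfold wP at hp
    rw [decide_eq_true_eq] at hp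
    exact ⟨g S r, g_mem S hp hr, π_g S hr⟩
  obtain ⟨w0, hw0, e⟩ := h2 h1
  exact ⟨w0, hw0, S.eq_or e.symm⟩

theorem Phi_le : Phi (P S) ≤ W0 S := by
  unfold Phi
  rw [closure_le]
  rintro _ ⟨w, p, hw, hp, rfl⟩
  obtain ⟨w0, hw0, rfl | rfl⟩ := Wz_le S hw
  · have h := mul_mem hw0 (P_norm_W0 S hp (inv_mem hw0))
    have e : w * p * w⁻¹ * p⁻¹ = w * (p * w⁻¹ * p⁻¹) := by group
    rw [SetLike.mem_coe, e]
    exact h
  · have h := mul_mem hw0 (P_norm_W0 S hp (inv_mem hw0))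
    have e : w0 * S.z * p * (w0 * S.z)⁻¹ * p⁻¹ = w0 * (p * w0⁻¹ * p⁻¹) := by
      rw [mul_inv_rev, mul_assoc w0 S.z p, ← S.zc p]
      group
    rw [SetLike.mem_coe, e]
    exact h

/-- **The class of `f 44 * z`.** -/
theorem bad : Alt S.z (S.f 44 * S.z) := by
  right
  rw [cent_eq]
  exact ⟨le_antisymm (P_le S) (O2_le _), e_mem S, fun h => z_not_mem_W0 S (Phi_le S h)⟩

/-- **`Facts.inv`** -/
theorem inv {e : K} (he : e * e = 1) (he1 : e ≠ 1) (hez : e ≠ S.z) : Alt S.z e :=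
  inv_of' S (fun T => bad T) he he1 hez

end

end Cfsg.Agent.OddHalf.D9.FFour.Bad

end

-- merged: Cfsg.Agent.OddHalf.D9.FFour.Kill
section

/-!
# D9, row `2.F₄(2)`: the `G`-level

`kill`: `G` simple, `K ⊴ C_G(z)` with `z ∈ Z(K)`, `C(K)` an abelian 2-group with one involution (`M12Glue.Amb`) and the
facts `FFour.Def.Facts` on `K`: contradiction. With `D(e) = C(z) ∩ C(e)`: the elements of odd order of `C(z)` lie in
`K`; if `e = g z g⁻¹ ∈ K - {z}` then either a square root of `e` in `O²(D(e))` gives a square root of `z` in `K`, or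
`Φ(C_K(e))` contains `e` and `Φ(C_K(e^))` does not contain `z`; if `e` is outer, then `e ~ ec` with
`1 ≠ c ∈ O²(D(e))`.
-/

set_option autoImplicit false

namespace Cfsg.Agent.OddHalf.D9.FFour.Kill

open Subgroup Cfsg.Agent.OddHalf.D9.FFour.Def Cfsg.Agent.OddHalf.D9.M12Glue

variable {G : Type*} [Group G] {z : G} {K : Subgroup G}

/-- `C(z) ∩ C(e)` -/
def Dz (z e : G) : Subgroup G := centralizer {z} ⊓ centralizer {e}

theorem mem_Dz {z e x : G} : x ∈ Dz z e ↔ x * z = z * x ∧ x * e = e * x := by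
  rw [Dz, mem_inf, mem_centralizer_singleton_iff, mem_centralizer_singleton_iff]

theorem Dz_comm (z e : G) : Dz z e = Dz e z := inf_comm _ _

theorem conj_comm_iff {x a g : G} : g * x * g⁻¹ * (g * a * g⁻¹) = g * a * g⁻¹ * (g * x * g⁻¹) ↔ x * a = a * x := by
  constructor
  · intro h
    have h1 : g * (x * a) * g⁻¹ = g * (a * x) * g⁻¹ := by
      calc g * (x * a) * g⁻¹ = g * x * g⁻¹ * (g * a * g⁻¹) := by group
        _ = g * a * g⁻¹ * (g * x * g⁻¹) := h
        _ = g * (a * x) * g⁻¹ := by group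
    exact mul_left_cancel (mul_right_cancel h1)
  · intro h
    calc g * x * g⁻¹ * (g * a * g⁻¹) = g * (x * a) * g⁻¹ := by group
      _ = g * (a * x) * g⁻¹ := by rw [h]
      _ = g * a * g⁻¹ * (g * x * g⁻¹) := by group

theorem map_Dz (g z e : G) : (Dz z e).map (MulAut.conj g).toMonoidHom = Dz (g * z * g⁻¹) (g * e * g⁻¹) := by
  ext x
  constructor
  · rintro ⟨y, hy, rfl⟩
    have h := mem_Dz.1 hy
    show g * y * g⁻¹ ∈ _
    exact mem_Dz.2 ⟨conj_comm_iff.2 h.1, conj_comm_iff.2 h.2⟩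
  · intro hx
    have h := mem_Dz.1 hx
    refine ⟨g⁻¹ * x * g, ?_, by show g * (g⁻¹ * x * g) * g⁻¹ = x; group⟩
    have e1 : g * (g⁻¹ * x * g) * g⁻¹ = x := by group
    rw [← e1] at h
    exact mem_Dz.2 ⟨conj_comm_iff.1 h.1, conj_comm_iff.1 h.2⟩

theorem conj_inj (g : G) : Function.Injective (MulAut.conj g).toMonoidHom := (MulAut.conj g).injective

/-- conjugation by `g⁻¹` maps `O²(C(z) ∩ C(g z g⁻¹))` to `O²(C(z) ∩ C(g⁻¹ z g))` -/
theorem conj_O2 {g y : G} (hy : y ∈ O2 (Dz z (g * z * g⁻¹))) : g⁻¹ * y * g ∈ O2 (Dz z (g⁻¹ * z * g)) := by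
  have h1 : (Dz z (g * z * g⁻¹)).map (MulAut.conj g⁻¹).toMonoidHom = Dz z (g⁻¹ * z * g) := by
    rw [map_Dz, Dz_comm]
    congr 1
    · group
    · group
  rw [← h1, map_O2 (conj_inj _)]
  refine ⟨y, hy, ?_⟩
  show g⁻¹ * y * g⁻¹⁻¹ = _
  rw [inv_inv]

/-- odd powers -/
theorem mem_of_pow_mem {H : Subgroup G} {x : G} {n : ℕ} (hn : Odd n) {m : ℕ} (hm : x ^ 2 ^ m ∈ H)
    (h : x ^ n ∈ H) : x ∈ H := by
  have hcop : Nat.Coprime n (2 ^ m) := Nat.Coprime.pow_right _ (Nat.coprime_two_right.2 hn)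
  have h1 : ∃ a b : ℤ, (n : ℤ) * a + (2 ^ m : ℕ) * b = 1 := by
    refine ⟨Nat.gcdA n (2 ^ m), Nat.gcdB n (2 ^ m), ?_⟩
    have := Nat.gcd_eq_gcd_ab n (2 ^ m)
    rw [hcop.gcd_eq_one] at this
    exact this.symm
  obtain ⟨a, b, hab⟩ := h1
  have h5 : x = (x ^ n) ^ a * (x ^ (2 ^ m)) ^ b := by
    conv_lhs => rw [← zpow_one x, ← hab]
    rw [zpow_add, zpow_mul, zpow_mul]
    norm_cast
  rw [h5]
  exact H.mul_mem (H.zpow_mem h a) (H.zpow_mem hm b)

variable (A : Amb z K)

include A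

/-- elements of odd order of `C(z)` lie in `K` -/
theorem odd_mem (F : Facts K ⟨z, A.zK⟩) {h : G} (hz : h * z = z * h) (ho : Odd (orderOf h)) : h ∈ K := by
  -- `h ∈ KR`
  have h1 : h ∈ KR K := by
    have h2 : h ^ 2 ∈ KR K := by
      have hz2 : h ^ 2 * z = z * h ^ 2 := by
        rw [sq, mul_assoc, hz, ← mul_assoc, hz, mul_assoc]
      obtain ⟨k, hk⟩ := F.outsq (A.act hz)
      obtain ⟨k', hk', r, hr, e⟩ := A.of_inn hz2 ⟨k, by
        ext x
        show (k : G) * x * (k : G)⁻¹ = h ^ 2 * x * (h ^ 2)⁻¹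
        have h3 := congrArg Subtype.val (hk x)
        have h4 : h * (h * (x : G) * h⁻¹) * h⁻¹ = k * x * (k : G)⁻¹ := h3
        rw [← h4, sq]
        group⟩
      exact ⟨k', hk', r, hr, e⟩
    refine mem_of_pow_mem ho (m := 1) (by rw [pow_one]; exact h2) ?_
    rw [pow_orderOf_eq_one]
    exact one_mem _
  obtain ⟨k, hk, r, hr, rfl⟩ := h1
  have hc : Commute k r := (hr k hk).symm
  have h2 : r ^ orderOf (k * r) ∈ K := by
    have h3 : k ^ orderOf (k * r) * r ^ orderOf (k * r) = 1 := by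
      rw [← hc.mul_pow, pow_orderOf_eq_one]
    rw [eq_inv_of_mul_eq_one_right h3]
    exact K.inv_mem (K.pow_mem hk _)
  obtain ⟨n, hn⟩ := A.two r hr
  exact K.mul_mem hk (mem_of_pow_mem ho (m := n) (by rw [hn]; exact one_mem _) h2)

theorem O2_le_K (F : Facts K ⟨z, A.zK⟩) (e : G) : O2 (Dz z e) ≤ K :=
  O2_le_of fun _ hx ho => odd_mem A F (mem_Dz.1 hx).1 ho

theorem Kz (F : Facts K ⟨z, A.zK⟩) {k : G} (hk : k ∈ K) : k * z = z * k := by
  have := ((F.cen ⟨z, A.zK⟩).mpr (Or.inr rfl)) ⟨k, hk⟩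
  exact (congrArg Subtype.val this).symm

/-- `O²(C(z) ∩ C(e)) = O²(C_K(e))` -/
theorem O2_eq (F : Facts K ⟨z, A.zK⟩) {e : G} (he : e ∈ K) :
    (O2 (centralizer {(⟨e, he⟩ : K)})).map K.subtype = O2 (Dz z e) := by
  rw [← map_O2 K.subtype_injective]
  apply le_antisymm
  · apply O2_mono
    rintro _ ⟨x, hx, rfl⟩
    exact mem_Dz.2 ⟨Kz A F x.2, congrArg Subtype.val (mem_centralizer_singleton_iff.1 hx)⟩
  · unfold O2
    refine closure_mono ?_
    rintro x ⟨hx, ho⟩
    have h := mem_Dz.1 hx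
    have hxK := odd_mem A F h.1 ho
    exact ⟨⟨⟨x, hxK⟩, mem_centralizer_singleton_iff.2 (Subtype.ext h.2), rfl⟩, ho⟩

/-- an involution in `K`, conjugate to `z`: type (S) is impossible -/
theorem not_S (F : Facts K ⟨z, A.zK⟩) {g : G} (he : g * z * g⁻¹ ∈ K)
    (h : ∃ y ∈ O2 (centralizer {(⟨g * z * g⁻¹, he⟩ : K)}), y * y = ⟨g * z * g⁻¹, he⟩) : False := by
  obtain ⟨y, hy, hyy⟩ := h
  have h1 : (y : G) ∈ O2 (Dz z (g * z * g⁻¹)) := by
    rw [← O2_eq A F he]
    exact ⟨y, hy, rfl⟩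
  have h2 := O2_le_K A F _ (conj_O2 h1)
  refine F.sq ⟨_, h2⟩ (Subtype.ext ?_)
  have h3 : (y : G) * y = g * z * g⁻¹ := congrArg Subtype.val hyy
  show g⁻¹ * y * g * (g⁻¹ * y * g) = z
  calc g⁻¹ * y * g * (g⁻¹ * y * g) = g⁻¹ * (y * y) * g := by group
    _ = z := by rw [h3]; group

/-- `z^G ∩ K = {z}` -/
theorem eq_of_mem (F : Facts K ⟨z, A.zK⟩) (g : G) (he : g * z * g⁻¹ ∈ K) : g * z * g⁻¹ = z := by
  by_contra hne
  have hzz : z * z = 1 := congrArg Subtype.val F.zz
  have hz1 : z ≠ 1 := fun h => F.ne (Subtype.ext h)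
  have sq' : ∀ g : G, g * z * g⁻¹ * (g * z * g⁻¹) = 1 := fun g => by
    calc g * z * g⁻¹ * (g * z * g⁻¹) = g * (z * z) * g⁻¹ := by group
      _ = 1 := by rw [hzz]; group
  have ne' : ∀ g : G, g * z * g⁻¹ ≠ 1 := fun g h => hz1 (conj_eq_one_iff.mp h)
  rcases F.inv ⟨g * z * g⁻¹, he⟩ (Subtype.ext (sq' g)) (fun h => ne' g (congrArg Subtype.val h))
    (fun h => hne (congrArg Subtype.val h)) with h | ⟨hC, hPhi, hn⟩
  · exact not_S A F he h
  · -- the other conjugate
    have hzC : (⟨z, A.zK⟩ : K) ∈ centralizer {(⟨g * z * g⁻¹, he⟩ : K)} := by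
      rw [mem_centralizer_singleton_iff]
      exact Subtype.ext (Kz A F he).symm
    have h1 : z ∈ O2 (Dz z (g * z * g⁻¹)) := by
      rw [← O2_eq A F he]
      rw [hC] at hzC
      exact ⟨_, hzC, rfl⟩
    have h2 : g⁻¹ * z * g⁻¹⁻¹ ∈ K := by
      rw [inv_inv]
      exact O2_le_K A F _ (conj_O2 h1)
    have hne2 : g⁻¹ * z * g⁻¹⁻¹ ≠ z := by
      rw [inv_inv]
      intro h
      apply hne
      calc g * z * g⁻¹ = g * (g⁻¹ * z * g) * g⁻¹ := by rw [h]
        _ = z := by group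
    rcases F.inv ⟨g⁻¹ * z * g⁻¹⁻¹, h2⟩ (Subtype.ext (sq' g⁻¹)) (fun h => ne' g⁻¹ (congrArg Subtype.val h))
      (fun h => hne2 (congrArg Subtype.val h)) with h | ⟨hC', hPhi', hn'⟩
    · exact not_S A F h2 h
    · apply hn'
      -- `C_K(e^)` is the conjugate of `C_K(e)`
      have e1 : ((centralizer {(⟨g * z * g⁻¹, he⟩ : K)}).map K.subtype).map (MulAut.conj g⁻¹).toMonoidHom =
          (centralizer {(⟨g⁻¹ * z * g⁻¹⁻¹, h2⟩ : K)}).map K.subtype := by
        rw [hC, hC', O2_eq A F he, O2_eq A F h2, ← map_O2 (conj_inj _), map_Dz, Dz_comm]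
        congr 2
        group
      have e2 : (g * z * g⁻¹) ∈ Phi ((centralizer {(⟨g * z * g⁻¹, he⟩ : K)}).map K.subtype) := by
        rw [map_Phi K.subtype_injective]
        exact ⟨_, hPhi, rfl⟩
      have e3 : z ∈ Phi ((centralizer {(⟨g⁻¹ * z * g⁻¹⁻¹, h2⟩ : K)}).map K.subtype) := by
        rw [← e1, map_Phi (conj_inj _)]
        refine ⟨_, e2, ?_⟩
        show g⁻¹ * (g * z * g⁻¹) * g⁻¹⁻¹ = z
        group
      rw [map_Phi K.subtype_injective] at e3
      obtain ⟨y, hy, hyz⟩ := e3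
      have : y = ⟨z, A.zK⟩ := Subtype.ext hyz
      rwa [this] at hy

/-- `z^G ∩ KR = {z}` -/
theorem eq_of_mem_KR (F : Facts K ⟨z, A.zK⟩) (g : G) (he : g * z * g⁻¹ ∈ KR K) : g * z * g⁻¹ = z := by
  apply eq_of_mem A F g
  have hzz : z * z = 1 := congrArg Subtype.val F.zz
  have hsq : g * z * g⁻¹ * (g * z * g⁻¹) = 1 := by
    calc g * z * g⁻¹ * (g * z * g⁻¹) = g * (z * z) * g⁻¹ := by group
      _ = 1 := by rw [hzz]; group
  obtain ⟨k, hk, r, hr, e⟩ := he
  rw [e] at hsq ⊢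
  have h1 : k * k * (r * r) = 1 := by
    calc k * k * (r * r) = k * (k * r) * r := by group
      _ = k * (r * k) * r := by rw [hr k hk]
      _ = 1 := by rw [← hsq]; group
  have h2 : k * k = (r * r)⁻¹ := eq_inv_of_mul_eq_one_left h1
  have h3 : ∀ l ∈ K, (r * r) * l = l * (r * r) := fun l hl => by
    rw [mul_assoc, hr l hl, ← mul_assoc, hr l hl, mul_assoc]
  have h4 : (⟨k, hk⟩ : K) * ⟨k, hk⟩ = 1 ∨ (⟨k, hk⟩ : K) * ⟨k, hk⟩ = ⟨z, A.zK⟩ := by
    refine (F.cen _).1 ?_
    intro l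
    apply Subtype.ext
    show k * k * l = l * (k * k)
    rw [h2, inv_mul_eq_iff_eq_mul, ← mul_assoc, h3 l l.2, mul_inv_cancel_right]
  rcases h4 with h4 | h4
  · have h4' : k * k = 1 := congrArg Subtype.val h4
    have h5 : r * r = 1 := by rwa [h4', one_mul] at h1
    rcases A.one r hr h5 with rfl | rfl
    · rwa [mul_one]
    · exact K.mul_mem hk A.zK
  · exact absurd h4 (F.sq _)

/-- `z` is isolated in `C(z)` -/
theorem isolated (F : Facts K ⟨z, A.zK⟩) (g : G) (hg : g * z * g⁻¹ * z = z * (g * z * g⁻¹)) : g * z * g⁻¹ = z := by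
  by_contra hne
  have hnKR : g * z * g⁻¹ ∉ KR K := fun h => hne (eq_of_mem_KR A F g h)
  have hzz : z * z = 1 := congrArg Subtype.val F.zz
  set e := g * z * g⁻¹ with he
  have hee : e * e = 1 := by
    calc e * e = g * (z * z) * g⁻¹ := by rw [he]; group
      _ = 1 := by rw [hzz]; group
  obtain ⟨k, hc1, hc2⟩ := F.out (A.act hg) (by
    intro x
    apply Subtype.ext
    show e * (e * x * e⁻¹) * e⁻¹ = x
    calc e * (e * x * e⁻¹) * e⁻¹ = (e * e) * x * (e * e)⁻¹ := by group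
      _ = x := by rw [hee]; group) (by
    intro k
    by_contra hcon
    push Not at hcon
    apply hnKR
    exact A.of_inn hg ⟨k, by
      ext x
      exact (congrArg Subtype.val (hcon x)).symm⟩)
  set c := A.act hg k * k⁻¹ with hc
  have hc' : e * (k : G) * e⁻¹ * (k : G)⁻¹ = c := by rw [hc]; rfl
  -- `c ∈ O²(C(z) ∩ C(e))`
  have h1 : (c : G) ∈ O2 (Dz z e) := by
    have h2 : (fix (A.act hg)).map K.subtype ≤ Dz z e := by
      rintro _ ⟨x, hx, rfl⟩
      refine mem_Dz.2 ⟨Kz A F x.2, ?_⟩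
      have h3 : e * (x : G) * e⁻¹ = x := congrArg Subtype.val (mem_fix.1 hx)
      show (x : G) * e = e * x
      rw [mul_inv_eq_iff_eq_mul] at h3
      exact h3.symm
    apply O2_mono h2
    rw [map_O2 K.subtype_injective]
    exact ⟨c, hc2, rfl⟩
  have hce := (mem_Dz.1 (O2_le _ h1)).2
  -- `k e k⁻¹ = c⁻¹ e`
  have h2 : (k : G) * e * (k : G)⁻¹ = (c : G)⁻¹ * e := by
    rw [← hc']
    group
  have h3 := O2_le_K A F _ (conj_O2 ((O2 (Dz z e)).inv_mem h1))
  have h4 : (g⁻¹ * k * g) * z * (g⁻¹ * k * g)⁻¹ = g⁻¹ * (c : G)⁻¹ * g * z := by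
    calc (g⁻¹ * k * g) * z * (g⁻¹ * k * g)⁻¹ = g⁻¹ * (k * (g * z * g⁻¹) * (k : G)⁻¹) * g := by group
      _ = g⁻¹ * ((c : G)⁻¹ * (g * z * g⁻¹)) * g := by rw [← he, h2]
      _ = _ := by group
  have h5 := eq_of_mem A F (g⁻¹ * k * g) (by rw [h4]; exact K.mul_mem h3 A.zK)
  rw [h4] at h5
  have h6 : g⁻¹ * (c : G)⁻¹ * g = 1 := mul_eq_right.1 h5
  apply hc1
  apply Subtype.ext
  have h7 : (c : G)⁻¹ = 1 := by
    calc (c : G)⁻¹ = g * (g⁻¹ * (c : G)⁻¹ * g) * g⁻¹ := by group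
      _ = 1 := by rw [h6]; group
  exact inv_eq_one.1 h7

/-- **D9, row `2.F₄(2)`**, `K`-facts as hypotheses. -/
theorem kill [Finite G] [IsSimpleGroup G] (hna : ¬ IsMulCommutative G) (F : Facts K ⟨z, A.zK⟩) : False := by
  have hzz : z * z = 1 := congrArg Subtype.val F.zz
  have hz1 : z ≠ 1 := fun h => F.ne (Subtype.ext h)
  have hz : orderOf z = 2 := orderOf_eq_prime (by rw [sq, hzz]) hz1
  obtain ⟨g, h1, h2⟩ := StandardComponent.AltFinal.exists_conj hna hz
  exact h1 (isolated A F g h2)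

end Cfsg.Agent.OddHalf.D9.FFour.Kill

end

-- merged: Cfsg.Agent.OddHalf.D9.FFour.Row
section

/-!
# D9, row `2.F₄(2)`: from the facts on `K` (`FFour.Def.Facts`) to the field `f42` of `Cut.Rows`
-/

set_option autoImplicit false

namespace Cfsg.Agent.OddHalf.D9.FFour.Row

open Subgroup Cfsg Cfsg.Agent.OddHalf.Iface Cfsg.Agent.OddHalf.D9.FFour.Def

universe u

theorem row (facts : ∀ (K : Type u) [Group K] [Finite K], IsQuasisimple K → Nat.card ↥(center K) = 2 →
      Cut.XF42 (K ⧸ center K) → ∀ z : K, z ≠ 1 → z * z = 1 → (∀ y, z * y = y * z) → Facts K z) :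
    Cut.Row.{u} (fun K _ => Cut.Two (fun X _ => Cut.XF42 X) K) :=
  AmbOf.row_two (fun X _ => Cut.XF42 X) (fun K _ z => Facts K z) facts fun G _ C K z A F => by
    have := C.fin
    have := C.simple
    exact Kill.kill A C.na F

end Cfsg.Agent.OddHalf.D9.FFour.Row

end

-- merged: Cfsg.Agent.OddHalf.D9.FFour.Main
section

/-!
# D9, row `2.F₄(2)`: the facts on `K` and the row

* `facts`: `Facts K z` for every perfect `K` with `|Z(K)| = 2` and `K / Z(K) ≃ F₄(2)`;
* `f42`: the field `f42` of `Cut.Rows`.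
-/

set_option autoImplicit false

namespace Cfsg.Agent.OddHalf.D9.FFour.Main

open Subgroup Cfsg Cfsg.Agent.OddHalf.Iface Cfsg.Agent.OddHalf.D9.FFour.Def
open Cfsg.Agent.FourTwo.Lift (Ext)

universe u

/-- the facts from a system of lifts -/
theorem facts_of_sys {K : Type u} [Group K] (S : Sys.Sys K) (hc : ∀ k, k ∈ center K ↔ k = 1 ∨ k = S.z) :
    Facts K S.z := by
  have E : Ext S.π := ⟨S.surj, by
    intro m hm g
    rcases (S.ker m).1 hm with rfl | rfl
    · rw [one_mul, mul_one]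
    · exact (S.zc g).symm⟩
  have hK : ⁅(⊤ : Subgroup K), (⊤ : Subgroup K)⁆ = ⊤ := S.perf
  refine ⟨S.ne, S.zz, ?_, Inv.sq S, fun e h1 h2 h3 => Bad.inv S h1 h2 h3, Out.outsq E hK, ?_⟩
  · intro x
    rw [← hc x, mem_center_iff]
    exact ⟨fun h y => (h y).symm, fun h y => (h y).symm⟩
  · intro α h1 h2
    exact Out.out E hK S.ker S.ne S.zz h1 h2

/-- **The facts on `2.F₄(2)`.** -/
theorem facts (K : Type u) [Group K] (hp : commutator K = ⊤) (hX : Cut.XF42 (K ⧸ center K)) (z : K) (hz : z ≠ 1)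
    (hzc : ∀ y, z * y = y * z) : Facts K z := by
  have h0 : z ∈ center K := mem_center_iff.2 fun y => (hzc y).symm
  have h1 : center K ≠ ⊥ := by
    intro h
    rw [h, mem_bot] at h0
    exact hz h0
  obtain ⟨S, hS⟩ := SysOf.exists_sys_center hp hX h1
  rcases (hS z).1 h0 with h2 | h2
  · exact absurd h2 hz
  · rw [h2]
    exact facts_of_sys S hS

/-- **The field `f42` of `Cut.Rows`.** -/
theorem f42 : Cut.Row.{u} (fun K _ => Cut.Two (fun X _ => Cut.XF42 X) K) :=
  Row.row fun K _ _ hq _ hX z hz _ hzc => facts K hq.1.commutator_eq_top hX z hz hzc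

end Cfsg.Agent.OddHalf.D9.FFour.Main

end

-- merged: Cfsg.Agent.OddHalf.D9.Plug.RowJ2
section

/-!
# D9, row `2.J₂`
-/

set_option autoImplicit false

namespace Cfsg.Agent.OddHalf.D9.Plug.RowJ2

open Subgroup Cfsg Cfsg.Agent.OddHalf.Iface Cfsg.Agent.OddHalf.D9.Cut

universe u

/-- **D9, row `2.J₂`.** -/
theorem row : Cut.Row.{u} (fun K _ => Cut.Two (fun X _ => Spor.IsoJ2 X) K) :=
  Cfsg.Agent.OddHalf.D9.J2.Row.row_of
    (fun _ _ C _ S hc hz => Cfsg.Agent.OddHalf.D9.Basic.of_std C S hc hz)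

end Cfsg.Agent.OddHalf.D9.Plug.RowJ2

end

-- merged: Cfsg.Agent.OddHalf.D9.Label
section

/-!
# D9: fact (I') of the kill by labels

`π : K → S` is surjective with kernel `Z(K) = {1, c}`. `S` has two classes of involutions, with representatives `i` (whose
preimages are involutions) and `w` (whose preimages have square `c`), `C(i)` is perfect, contains a conjugate of `w`,
and `Q = O_2(C(i))` is such that the involutions of `Q` are conjugate to `i`, the elements of order 4 of `Q` have square `i` and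
are conjugate in `C(i)`. Then for every lift `f` of `i` exactly one of `f`, `fc` is the square of an element of
`O_2(C_K(f))`. `pf_of`: fact (I') if there is a suitable triple.
-/

set_option autoImplicit false

namespace Cfsg.Agent.OddHalf.D9.Label

open Subgroup Cfsg.Agent.OddHalf.D9.Kill Cfsg.Agent.OddHalf.D9.OuterOf
open scoped commutatorElement

universe u v

/-! ### The label -/

/-- `t` is the square of an element of a normal 2-subgroup. -/
def OS {P : Type u} [Group P] (t : P) : Prop :=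
  ∃ N : Subgroup P, N.Normal ∧ IsPGroup 2 ↥N ∧ ∃ y ∈ N, y * y = t

theorem os_map {P : Type u} {Q : Type v} [Group P] [Group Q] (e : P ≃* Q) {t : P} (h : OS t) : OS (e t) := by
  obtain ⟨N, hN, h2, y, hy, rfl⟩ := h
  exact ⟨N.map e.toMonoidHom, hN.map _ e.surjective, h2.map _, e y, ⟨y, hy, rfl⟩, (map_mul e y y).symm⟩

variable {K : Type u} [Group K]

/-- `t` is the square of an element of a normal 2-subgroup of the perfect core of `C(f)`. -/
def LB (f t : K) : Prop := ∃ h : t ∈ Pr (Ce f), OS (⟨t, h⟩ : ↥(Pr (Ce f)))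

theorem lb_map {L : Type v} [Group L] (e : K ≃* L) {f t : K} (h : LB f t) : LB (e f) (e t) := by
  obtain ⟨h1, h2⟩ := h
  refine ⟨(mem_Pr_Ce e).2 h1, ?_⟩
  let ψ : ↥(Pr (Ce f)) ≃* ↥(Pr (Ce (e f))) :=
    (equivMapOfInjective (Pr (Ce f)) e.toMonoidHom e.injective).trans (MulEquiv.subgroupCongr (map_Pr_Ce e f))
  have h3 : ψ ⟨t, h1⟩ = ⟨e t, (mem_Pr_Ce e).2 h1⟩ := Subtype.ext rfl
  rw [← h3]
  exact os_map ψ h2

theorem lb_conj (k : K) {f t : K} (h : LB f t) : LB (k * f * k⁻¹) (k * t * k⁻¹) := lb_map (MulAut.conj k) h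

theorem Ce_mul {f c : K} (hc : ∀ y, c * y = y * c) : Ce (f * c) = Ce f := by
  ext x
  rw [mem_Ce, mem_Ce]
  constructor
  · intro h
    have h1 : x * f * c = f * x * c := by
      calc x * f * c = x * (f * c) := by group
        _ = f * c * x := h
        _ = f * (c * x) := by group
        _ = f * x * c := by rw [hc]; group
    exact mul_right_cancel h1
  · intro h
    calc x * (f * c) = x * f * c := by group
      _ = f * (x * c) := by rw [h]; group
      _ = f * c * x := by rw [← hc]; group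

theorem lb_mul {f c t : K} (hc : ∀ y, c * y = y * c) : LB (f * c) t ↔ LB f t := by
  unfold LB
  rw [Ce_mul hc]

/-- an involution different from `c` -/
def Iv (c f : K) : Prop := f * f = 1 ∧ f ≠ 1 ∧ f ≠ c

/-- The facts on labels. -/
structure LF (c : K) : Prop where
  cc : c * c = 1
  c1 : c ≠ 1
  zc : ∀ y, c * y = y * c
  res : ∀ f, Iv c f → c ∈ Pr (Ce f)
  l1 : ∀ f, Iv c f → LB f f ∨ LB f (f * c)
  l2 : ∀ f, Iv c f → ¬ LB f c
  l3 : ∀ f, Iv c f → LB f f → ¬ LB f (f * c)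
  cj : ∀ f f', Iv c f → Iv c f' → ∃ k, k * f * k⁻¹ = f' ∨ k * f * k⁻¹ = f' * c
  triple : ∃ x y, Iv c x ∧ Iv c y ∧ Iv c (x * y) ∧ y ∈ Pr (Ce x) ∧ LB x (x * c) ∧ LB y (y * c) ∧
    LB (x * y) (x * y * c)

theorem iv_mul {c : K} (cc : c * c = 1) (zc : ∀ y, c * y = y * c) {f : K} (h : Iv c f) : Iv c (f * c) := by
  refine ⟨?_, ?_, ?_⟩
  · calc f * c * (f * c) = f * (c * f) * c := by group
      _ = (f * f) * (c * c) := by rw [zc]; group
      _ = 1 := by rw [h.1, cc, one_mul]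
  · intro h1
    apply h.2.2
    calc f = f * c * c := by rw [mul_assoc, cc, mul_one]
      _ = c := by rw [h1, one_mul]
  · intro h1
    exact h.2.1 (mul_eq_right.1 h1)

/-- **Labels give fact (I').** -/
theorem LF.pf {c : K} (F : LF c) : PF c {f | Iv c f ∧ LB f (f * c)} := by
  have hdis : ∀ f ∈ {f | Iv c f ∧ LB f (f * c)}, f * c ∉ {f | Iv c f ∧ LB f (f * c)} := by
    rintro f ⟨h1, h2⟩ ⟨-, h3⟩
    rw [lb_mul F.zc, mul_assoc, F.cc, mul_one] at h3
    exact F.l3 f h1 h3 h2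
  refine ⟨fun f h1 h2 h3 => F.res f ⟨h1, h2, h3⟩, ?_, hdis, ?_, ?_⟩
  · intro f f' h1 h2 h3 h4 h5 h6 hb
    refine ⟨⟨h1, h2, h3⟩, ?_⟩
    rcases F.l1 f ⟨h1, h2, h3⟩ with h | h
    · exfalso
      obtain ⟨g1, g2, g3, g4, φ, e1, e2⟩ := hb
      apply F.l2 f' ⟨h4, h5, h6⟩
      refine ⟨g4, ?_⟩
      rw [← e1]
      obtain ⟨h', h''⟩ := h
      exact os_map φ h''
    · exact h
  · rintro f ⟨h1, h2⟩ f' ⟨h3, h4⟩
    obtain ⟨k, hk | hk⟩ := F.cj f f' h1 h3
    · exact ⟨k, hk⟩
    · exfalso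
      apply hdis f' ⟨h3, h4⟩
      refine ⟨iv_mul F.cc F.zc h3, ?_⟩
      have h5 := lb_conj k h2
      have h6 : k * (f * c) * k⁻¹ = k * f * k⁻¹ * c := by
        calc k * (f * c) * k⁻¹ = k * f * (c * k⁻¹) := by group
          _ = _ := by rw [F.zc]; group
      rw [h6, hk] at h5
      exact h5
  · obtain ⟨x, y, h1, h2, h3, h4, h5, h6, h7⟩ := F.triple
    exact ⟨x, ⟨h1, h5⟩, y, ⟨h2, h6⟩, h4, h3, h7⟩

/-! ### The labels from the quotient -/

/-- Facts on the quotient `S`. -/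
structure QD {S : Type v} [Group S] (i w : S) (Q : Subgroup S) : Prop where
  ii : i * i = 1
  i1 : i ≠ 1
  /-- two classes of involutions -/
  two : ∀ s : S, s * s = 1 → s ≠ 1 → (∃ g, g * s * g⁻¹ = i) ∨ ∃ g, g * s * g⁻¹ = w
  perf : ⁅Ce i, Ce i⁆ = Ce i
  wP : ∃ g, g * w * g⁻¹ ∈ Ce i
  QP : Q ≤ Ce i
  Qn : ∀ g ∈ Ce i, ∀ y ∈ Q, g * y * g⁻¹ ∈ Q
  Q2 : IsPGroup 2 ↥Q
  Qmax : ∀ N : Subgroup S, N ≤ Ce i → (∀ g ∈ Ce i, ∀ y ∈ N, g * y * g⁻¹ ∈ N) → IsPGroup 2 ↥N → N ≤ Q
  Qinv : ∀ y ∈ Q, y * y = 1 → y ≠ 1 → ∃ g, g * y * g⁻¹ = i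
  Qsq : ∀ y ∈ Q, y * y = 1 ∨ y * y = i
  Qex : ∃ y ∈ Q, y * y = i
  Qtr : ∀ y ∈ Q, ∀ y' ∈ Q, y * y = i → y' * y' = i → ∃ g ∈ Ce i, g * y * g⁻¹ = y'

section Lift

variable {S : Type v} [Group S] {i w : S} {Q : Subgroup S} (D : QD i w Q) {c : K} (cc : c * c = 1) (c1 : c ≠ 1)
  (zc : ∀ y, c * y = y * c) (π : K →* S) (hπ : Function.Surjective π) (hker : ∀ k, π k = 1 ↔ k = 1 ∨ k = c)
  (hw : ∀ k, π k = w → k * k = c) (hi : ∀ k, π k = i → k * k = 1)

include hker in
theorem ker_sq {a b : K} (h : π a = π b) : b = a ∨ b = a * c := by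
  have h1 : π (a⁻¹ * b) = 1 := by rw [map_mul, map_inv, h, inv_mul_cancel]
  rcases (hker _).1 h1 with h2 | h2
  · left; exact (inv_mul_eq_one.1 h2).symm
  · right
    rw [← h2]; group

include cc zc hker in
theorem sq_eq {a b : K} (h : π a = π b) : b * b = a * a := by
  rcases ker_sq π hker h with rfl | rfl
  · rfl
  · calc a * c * (a * c) = a * (c * a) * c := by group
      _ = a * a * (c * c) := by rw [zc]; group
      _ = a * a := by rw [cc, mul_one]

include cc zc hπ hker in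
/-- squares of the preimages of conjugate elements -/
theorem sq_conj {a b : K} {g : S} (h : g * π a * g⁻¹ = π b) : ∃ k, k * (a * a) * k⁻¹ = b * b ∧ π k = g := by
  obtain ⟨k, rfl⟩ := hπ g
  refine ⟨k, ?_, rfl⟩
  have h1 : π (k * a * k⁻¹) = π b := by rw [map_mul, map_mul, map_inv, h]
  rw [sq_eq cc zc π hker h1]
  group

include cc zc hπ hker hw in
theorem sq_w {k : K} {g : S} (h : g * π k * g⁻¹ = w) : k * k = c := by
  obtain ⟨b, hb⟩ := hπ w
  obtain ⟨l, hl, -⟩ := sq_conj cc zc π hπ hker (a := k) (b := b) (g := g) (by rw [h, hb])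
  rw [hw b hb] at hl
  calc k * k = l⁻¹ * (l * (k * k) * l⁻¹) * l := by group
    _ = c := by rw [hl, mul_assoc, zc]; group

include cc zc hπ hker hi in
theorem sq_i {k : K} {g : S} (h : g * π k * g⁻¹ = i) : k * k = 1 := by
  obtain ⟨b, hb⟩ := hπ i
  obtain ⟨l, hl, -⟩ := sq_conj cc zc π hπ hker (a := k) (b := b) (g := g) (by rw [h, hb])
  rw [hi b hb] at hl
  calc k * k = l⁻¹ * (l * (k * k) * l⁻¹) * l := by group
    _ = 1 := by rw [hl]; group

include D cc zc hπ hker hw in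
/-- the centralizer of a lift of `i` is the full preimage of `C(i)`, and perfect -/
theorem Ce_eq {f : K} (hf : π f = i) : Ce f = (Ce i).comap π ∧ ⁅Ce f, Ce f⁆ = Ce f := by
  have hkc : ∀ k, π k = 1 → ∀ y, k * y = y * k := by
    intro k hk y
    rcases (hker k).1 hk with rfl | rfl
    · rw [one_mul, mul_one]
    · exact zc y
  obtain ⟨E, hE, hEi⟩ := exists_perfect_lift π hπ hkc D.perf
  have hEf : E ≤ Ce f := by
    have h1 := eq_of_central hE (MulAut.conj f).toMonoidHom (MonoidHom.id K) (fun x hx => by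
      apply hkc
      change π (x⁻¹ * (f * x * f⁻¹)) = 1
      have h2 : π x ∈ Ce i := by rw [← hEi]; exact ⟨x, hx, rfl⟩
      have h3 : π x * i = i * π x := h2
      rw [map_mul, map_mul, map_mul, map_inv, map_inv, hf, ← h3]
      group)
    intro x hx
    have h2 : f * x * f⁻¹ = x := h1 x hx
    exact (mul_inv_eq_iff_eq_mul.1 h2).symm
  have hcE : c ∈ E := by
    obtain ⟨g, hg⟩ := D.wP
    rw [← hEi] at hg
    obtain ⟨d, hd, hdg⟩ := hg
    have h2 : d * d = c := sq_w cc zc π hπ hker hw (k := d) (g := g⁻¹) (by rw [hdg]; group)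
    rw [← h2]
    exact E.mul_mem hd hd
  have h1 : (Ce i).comap π ≤ E := by
    intro x hx
    have h2 : π x ∈ E.map π := by rw [hEi]; exact hx
    obtain ⟨d, hd, hdx⟩ := h2
    rcases ker_sq π hker hdx with rfl | rfl
    · exact hd
    · exact E.mul_mem hd hcE
  have h2 : Ce f ≤ (Ce i).comap π := by
    intro x hx
    change π x * i = i * π x
    rw [← hf, ← map_mul, ← map_mul, show x * f = f * x from hx]
  have h3 : Ce f = E := le_antisymm (h2.trans h1) hEf
  refine ⟨le_antisymm h2 (h1.trans hEf), ?_⟩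
  rw [h3, hE]

include D cc zc hπ hker hw in
theorem Pr_eq {f : K} (hf : π f = i) : Pr (Ce f) = (Ce i).comap π := by
  obtain ⟨h1, h2⟩ := Ce_eq D cc zc π hπ hker hw hf
  apply le_antisymm
  · rw [← h1]; exact Pr_le _
  · rw [← h1]; exact le_Pr le_rfl h2

include D cc zc hπ hker hw in
/-- an element `t` with label comes from `Q` -/
theorem of_lb {f t : K} (hf : π f = i) (h : LB f t) : ∃ y, π y ∈ Q ∧ y * y = t := by
  obtain ⟨h1, N, hN, h2, ⟨y, hyP⟩, hy, hyt⟩ := h
  refine ⟨y, ?_, congrArg Subtype.val hyt⟩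
  have hP := Pr_eq D cc zc π hπ hker hw hf
  have h3 : (N.map (Pr (Ce f)).subtype).map π ≤ Q := by
    apply D.Qmax
    · rintro _ ⟨_, ⟨x, -, rfl⟩, rfl⟩
      have h4 : (x : K) ∈ (Ce i).comap π := by rw [← hP]; exact x.2
      exact h4
    · rintro g hg _ ⟨_, ⟨x, hx, rfl⟩, rfl⟩
      obtain ⟨k, rfl⟩ := hπ g
      have hk : k ∈ Pr (Ce f) := by rw [hP]; exact hg
      refine ⟨_, ⟨⟨k, hk⟩ * x * ⟨k, hk⟩⁻¹, hN.conj_mem x hx ⟨k, hk⟩, rfl⟩, ?_⟩
      change π (k * x * k⁻¹) = π k * π x * (π k)⁻¹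
      rw [map_mul, map_mul, map_inv]
    · exact (h2.map _).map _
  exact h3 ⟨y, ⟨⟨y, hyP⟩, hy, rfl⟩, rfl⟩

include D cc zc hπ hker hw in
/-- the squares of the lifts of the elements of `Q` have the label -/
theorem lb_of {f y : K} (hf : π f = i) (hy : π y ∈ Q) : LB f (y * y) := by
  have hP := Pr_eq D cc zc π hπ hker hw hf
  have hQP : Q.comap π ≤ Pr (Ce f) := by
    rw [hP]
    exact comap_mono D.QP
  have hyP : y ∈ Pr (Ce f) := hQP hy
  refine ⟨(Pr (Ce f)).mul_mem hyP hyP, (Q.comap π).subgroupOf (Pr (Ce f)), ?_, ?_, ⟨y, hyP⟩, hy, rfl⟩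
  · refine ⟨fun x hx g => ?_⟩
    have h1 : π x ∈ Q := hx
    change π (g * x * (g : K)⁻¹) ∈ Q
    rw [map_mul, map_mul, map_inv]
    refine D.Qn _ ?_ _ h1
    have h2 : (g : K) ∈ (Ce i).comap π := by rw [← hP]; exact g.2
    exact h2
  · have h1 : IsPGroup 2 ↥(Q.comap π) := by
      rintro ⟨x, hx⟩
      obtain ⟨n, hn⟩ := D.Q2 ⟨π x, hx⟩
      have h2 : π (x ^ 2 ^ n) = 1 := by
        rw [map_pow]; exact congrArg Subtype.val hn
      refine ⟨n + 1, Subtype.ext ?_⟩
      change x ^ 2 ^ (n + 1) = 1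
      rw [pow_succ, pow_mul, pow_two]
      rcases (hker _).1 h2 with h3 | h3
      · rw [h3, one_mul]
      · rw [h3, cc]
    exact h1.comap_subtype

include D cc c1 zc hπ hker hw hi in
/-- **The labels.** -/
theorem lf_of (triple : ∃ y g h : K, π y ∈ Q ∧ π (y * y) = i ∧ (y * y) * (g * (y * y) * g⁻¹) = h * (y * y) * h⁻¹ * c) : LF c := by
  have hc1 : π c = 1 := (hker c).2 (Or.inr rfl)
  -- lifts of `i`
  have hivi : ∀ f, π f = i → Iv c f := by
    intro f hf
    refine ⟨hi f hf, ?_, ?_⟩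
    · rintro rfl
      exact D.i1 (by rw [← hf, map_one])
    · rintro rfl
      exact D.i1 (by rw [← hf, hc1])
  -- involutions are conjugate to lifts of `i`
  have hcj : ∀ f, Iv c f → ∃ k, π (k * f * k⁻¹) = i := by
    intro f hf
    have h1 : π f * π f = 1 := by rw [← map_mul, hf.1, map_one]
    have h2 : π f ≠ 1 := by
      intro h
      rcases (hker f).1 h with h' | h'
      · exact hf.2.1 h'
      · exact hf.2.2 h'
    rcases D.two _ h1 h2 with ⟨g, hg⟩ | ⟨g, hg⟩
    · obtain ⟨k, rfl⟩ := hπ g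
      exact ⟨k, by rw [map_mul, map_mul, map_inv, hg]⟩
    · exfalso
      have h3 := sq_w cc zc π hπ hker hw hg
      rw [hf.1] at h3
      exact c1 h3.symm
  have hmulc : ∀ k t : K, k * (t * c) * k⁻¹ = k * t * k⁻¹ * c := by
    intro k t
    calc k * (t * c) * k⁻¹ = k * t * (c * k⁻¹) := by group
      _ = _ := by rw [zc]; group
  have hback : ∀ (k f t : K), LB (k * f * k⁻¹) (k * t * k⁻¹) → LB f t := by
    intro k f t h
    have h1 := lb_conj k⁻¹ h
    have e1 : ∀ s : K, k⁻¹ * (k * s * k⁻¹) * k⁻¹⁻¹ = s := fun s => by group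
    rwa [e1, e1] at h1
  have hinv : ∀ y, π y ∈ Q → π (y * y) = 1 → y * y = 1 := by
    intro y hy h
    rw [map_mul] at h
    by_cases h1 : π y = 1
    · rcases (hker y).1 h1 with rfl | rfl
      · exact one_mul 1
      · exact cc
    · obtain ⟨g, hg⟩ := D.Qinv _ hy h h1
      exact sq_i cc zc π hπ hker hi hg
  -- the squares of the lifts of the elements of order 4 of `Q`
  have hsame : ∀ f, π f = i → ∀ y y', π y ∈ Q → π y' ∈ Q → π (y * y) = i → π (y' * y') = i → y * y = y' * y' := by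
    intro f hf y y' hy hy' h1 h2
    rw [map_mul] at h1 h2
    obtain ⟨g, hg, hgy⟩ := D.Qtr _ hy _ hy' h1 h2
    obtain ⟨k, hk, hkg⟩ := sq_conj cc zc π hπ hker hgy
    have h3 : k ∈ Ce f := by
      rw [(Ce_eq D cc zc π hπ hker hw hf).1]
      change π k ∈ Ce i
      rw [hkg]; exact hg
    have h4 : k * (y * y) = y * y * k := by
      rcases ker_sq π hker (a := f) (b := y * y) (by rw [hf, map_mul, h1]) with h | h
      · rw [h]; exact h3
      · rw [h, ← mul_assoc, show k * f = f * k from h3, mul_assoc, mul_assoc, zc]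
    rw [← hk, h4, mul_inv_cancel_right]
  refine ⟨cc, c1, zc, ?_, ?_, ?_, ?_, ?_, ?_⟩
  · intro f hf
    obtain ⟨k, hk⟩ := hcj f hf
    have h1 : c ∈ Pr (Ce (k * f * k⁻¹)) := by
      rw [Pr_eq D cc zc π hπ hker hw hk]
      change π c ∈ Ce i
      rw [hc1]; exact one_mem _
    have h2 := (mem_Pr_Ce (MulAut.conj k) (x := c) (f := f)).1
    apply h2
    have h3 : MulAut.conj k c = c := by
      rw [MulAut.conj_apply, ← zc, mul_inv_cancel_right]
    rw [h3]
    exact h1
  · intro f hf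
    obtain ⟨k, hk⟩ := hcj f hf
    obtain ⟨s, hs, hsi⟩ := D.Qex
    obtain ⟨y, rfl⟩ := hπ s
    have h1 := lb_of D cc zc π hπ hker hw hk hs
    rcases ker_sq π hker (a := k * f * k⁻¹) (b := y * y) (by rw [hk, map_mul, hsi]) with h | h
    · left
      rw [h] at h1
      exact hback k f f h1
    · right
      rw [h, ← hmulc] at h1
      exact hback k f _ h1
  · intro f hf h
    obtain ⟨k, hk⟩ := hcj f hf
    have h1 := lb_conj k h
    obtain ⟨y, hy, hyc⟩ := of_lb D cc zc π hπ hker hw hk h1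
    have h2 : k * c * k⁻¹ = c := by rw [← zc, mul_inv_cancel_right]
    rw [h2] at hyc
    apply c1
    rw [← hyc]
    exact hinv y hy (by rw [hyc, hc1])
  · intro f hf h h'
    obtain ⟨k, hk⟩ := hcj f hf
    obtain ⟨y, hy, hyf⟩ := of_lb D cc zc π hπ hker hw hk (lb_conj k h)
    obtain ⟨y', hy', hyf'⟩ := of_lb D cc zc π hπ hker hw hk (lb_conj k h')
    have h1 := hsame _ hk y y' hy hy' (by rw [hyf, hk]) (by rw [hyf', hmulc, map_mul, hk, hc1, mul_one])
    rw [hyf, hyf', hmulc] at h1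
    exact c1 (mul_eq_left.1 h1.symm)
  · intro f f' hf hf'
    obtain ⟨k, hk⟩ := hcj f hf
    obtain ⟨l, hl⟩ := hcj f' hf'
    refine ⟨l⁻¹ * k, ?_⟩
    rcases ker_sq π hker (a := l * f' * l⁻¹) (b := k * f * k⁻¹) (by rw [hk, hl]) with h | h
    · left
      calc l⁻¹ * k * f * (l⁻¹ * k)⁻¹ = l⁻¹ * (k * f * k⁻¹) * l := by group
        _ = f' := by rw [h]; group
    · right
      calc l⁻¹ * k * f * (l⁻¹ * k)⁻¹ = l⁻¹ * (k * f * k⁻¹) * l := by group
        _ = l⁻¹ * (l * f' * l⁻¹ * c) * l := by rw [h]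
        _ = f' * l⁻¹ * (c * l) := by group
        _ = f' * c := by rw [zc]; group
  · obtain ⟨y, g, h, hy, hyi, he⟩ := triple
    obtain ⟨z, hz⟩ : ∃ z, z = y * y := ⟨_, rfl⟩
    rw [← hz] at hyi he
    have hiz := hivi z hyi
    have hic := iv_mul cc zc hiz
    -- conjugates of `z` have the label `x`
    have hz1 : LB z z := by
      have := lb_of D cc zc π hπ hker hw hyi hy
      rwa [← hz] at this
    have hiv : ∀ k t : K, Iv c t → Iv c (k * t * k⁻¹) := by
      intro k t ⟨h1, h2, h3⟩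
      refine ⟨?_, ?_, ?_⟩
      · calc k * t * k⁻¹ * (k * t * k⁻¹) = k * (t * t) * k⁻¹ := by group
          _ = 1 := by rw [h1]; group
      · intro h4
        apply h2
        calc t = k⁻¹ * (k * t * k⁻¹) * k := by group
          _ = 1 := by rw [h4]; group
      · intro h4
        apply h3
        calc t = k⁻¹ * (k * t * k⁻¹) * k := by group
          _ = k⁻¹ * (c * k) := by rw [h4]; group
          _ = c := by rw [zc]; group
    have hlab : ∀ k : K, LB (k * z * k⁻¹ * c) (k * z * k⁻¹ * c * c) := by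
      intro k
      rw [lb_mul zc, mul_assoc _ c c, cc, mul_one]
      exact lb_conj k hz1
    have hprod : z * c * (g * z * g⁻¹ * c) = z * (g * z * g⁻¹) := by
      calc z * c * (g * z * g⁻¹ * c) = z * (c * (g * z * g⁻¹)) * c := by group
        _ = z * (g * z * g⁻¹) * (c * c) := by rw [zc]; group
        _ = _ := by rw [cc, mul_one]
    refine ⟨z * c, g * z * g⁻¹ * c, hic, iv_mul cc zc (hiv g z hiz), ?_, ?_, ?_, hlab g, ?_⟩
    · rw [hprod, he]
      exact iv_mul cc zc (hiv h z hiz)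
    · -- the second commutes with the first
      rw [Ce_mul zc, Pr_eq D cc zc π hπ hker hw hyi, ← (Ce_eq D cc zc π hπ hker hw hyi).1]
      have h1 : (z * (g * z * g⁻¹)) * (z * (g * z * g⁻¹)) = 1 := by
        rw [he]
        exact (iv_mul cc zc (hiv h z hiz)).1
      have h2 : (g * z * g⁻¹) * (g * z * g⁻¹) = 1 := (hiv g z hiz).1
      have h3 : z * (g * z * g⁻¹) = g * z * g⁻¹ * z := by
        have h4 := eq_inv_of_mul_eq_one_left h1
        rw [h4, mul_inv_rev, inv_eq_of_mul_eq_one_left hiz.1, inv_eq_of_mul_eq_one_left h2]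
      change g * z * g⁻¹ * c * z = z * (g * z * g⁻¹ * c)
      calc g * z * g⁻¹ * c * z = g * z * g⁻¹ * (c * z) := by group
        _ = g * z * g⁻¹ * z * c := by rw [zc]; group
        _ = z * (g * z * g⁻¹ * c) := by rw [← h3]; group
    · have := hlab 1
      rw [inv_one, mul_one, one_mul] at this
      exact this
    · rw [hprod, he]
      exact hlab h

include D cc c1 zc hπ hker hw hi in
/-- **Fact (I')**. -/
theorem pf_of (triple : ∃ y g h : K, π y ∈ Q ∧ π (y * y) = i ∧ (y * y) * (g * (y * y) * g⁻¹) = h * (y * y) * h⁻¹ * c) : ∃ C : Set K, PF c C :=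
  ⟨_, (lf_of D cc c1 zc π hπ hker hw hi triple).pf⟩

include cc c1 zc hπ hker hi in
/-- Fact for the inner automorphisms: `Y` is a perfect subgroup of `C(w)` and there is a subgroup `D` of the preimage of
`Y` with `c ∈ D'`. -/
theorem inn_of (two : ∀ s : S, s * s = 1 → s ≠ 1 → (∃ g, g * s * g⁻¹ = i) ∨ ∃ g, g * s * g⁻¹ = w)
    {Y : Subgroup S} (hY : ⁅Y, Y⁆ = Y) (hYw : ∀ y ∈ Y, y * w = w * y)
    (hab : ∃ D : Subgroup K, D.map π ≤ Y ∧ c ∈ ⁅D, D⁆) : ∀ v : K, v * v = c → c ∈ Pr (Ce v) := by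
  have hc1 : π c = 1 := (hker c).2 (Or.inr rfl)
  have hkc : ∀ k, π k = 1 → ∀ y, k * y = y * k := by
    intro k hk y
    rcases (hker k).1 hk with rfl | rfl
    · rw [one_mul, mul_one]
    · exact zc y
  obtain ⟨D₀, hD₀, hcD⟩ := hab
  obtain ⟨E, hE, hEY⟩ := exists_perfect_lift π hπ hkc hY
  have hcE : c ∈ E := by
    have h2 : ⁅D₀, D₀⁆ ≤ E := by
      rw [commutator_le]
      intro x hx y hy
      have key : ∀ x ∈ D₀, ∃ d ∈ E, x = d ∨ x = d * c := by
        intro x hx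
        have h2 : π x ∈ E.map π := by rw [hEY]; exact hD₀ ⟨x, hx, rfl⟩
        obtain ⟨d, hd, hdx⟩ := h2
        exact ⟨d, hd, ker_sq π hker hdx⟩
      obtain ⟨d, hd, hxd⟩ := key x hx
      obtain ⟨e, he, hye⟩ := key y hy
      have h3 : ⁅x, y⁆ = ⁅d, e⁆ := by
        have hz : ∀ a b : K, ⁅a * c, b⁆ = ⁅a, b⁆ := fun a b => by
          have := comm_central (a := a) (b := b) (c := c) (d := 1) zc (fun y => by rw [one_mul, mul_one])
          rwa [mul_one] at this
        have hz' : ∀ a b : K, ⁅a, b * c⁆ = ⁅a, b⁆ := fun a b => by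
          have := comm_central (a := a) (b := b) (c := 1) (d := c) (fun y => by rw [one_mul, mul_one]) zc
          rwa [mul_one] at this
        rcases hxd with rfl | rfl <;> rcases hye with rfl | rfl
        · rfl
        · exact hz' _ _
        · exact hz _ _
        · rw [hz, hz']
      rw [h3]
      exact commutator_le_self E (commutator_mem_commutator hd he)
    exact h2 hcD
  intro v hv
  -- `π v` is conjugate to `w`
  have h1 : π v * π v = 1 := by rw [← map_mul, hv, hc1]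
  have h2 : π v ≠ 1 := by
    intro h
    rcases (hker v).1 h with rfl | rfl
    · exact c1 (by rw [← hv, one_mul])
    · exact c1 (hv.symm.trans cc)
  obtain ⟨g, hg⟩ : ∃ g, g * π v * g⁻¹ = w := by
    rcases two _ h1 h2 with ⟨g, hg⟩ | h
    · exfalso
      have h3 := sq_i cc zc π hπ hker hi hg
      exact c1 (hv.symm.trans h3)
    · exact h
  obtain ⟨k, rfl⟩ := hπ g
  obtain ⟨u, hu⟩ : ∃ u, u = k * v * k⁻¹ := ⟨_, rfl⟩
  have huw : π u = w := by rw [hu, map_mul, map_mul, map_inv, hg]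
  have h3 : E ≤ Ce u := by
    have h4 := eq_of_central hE (MulAut.conj u).toMonoidHom (MonoidHom.id K) (fun x hx => by
      apply hkc
      change π (x⁻¹ * (u * x * u⁻¹)) = 1
      have h5 : π x * w = w * π x := hYw _ (by rw [← hEY]; exact ⟨x, hx, rfl⟩)
      rw [map_mul, map_mul, map_mul, map_inv, map_inv, huw, ← h5]
      group)
    intro x hx
    have h5 : u * x * u⁻¹ = x := h4 x hx
    exact (mul_inv_eq_iff_eq_mul.1 h5).symm
  have h4 : c ∈ Pr (Ce u) := le_Pr h3 hE hcE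
  apply (mem_Pr_Ce (MulAut.conj k) (x := c) (f := v)).1
  have h5 : MulAut.conj k c = c := by
    rw [MulAut.conj_apply, ← zc, mul_inv_cancel_right]
  rw [h5, MulAut.conj_apply, ← hu]
  exact h4

end Lift

end Cfsg.Agent.OddHalf.D9.Label

end

-- merged: Cfsg.Agent.OddHalf.D9.Suz.QDSuz
section

/-!
# D9, row `2.Suz`: the facts on the simple quotient
-/

set_option autoImplicit false
set_option maxRecDepth 100000
set_option exponentiation.threshold 4000

namespace Cfsg.Agent.OddHalf.D9.QDSuz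

open Subgroup Cfsg.Spor Cfsg.Agent.Lib.PermNet Cfsg.Agent.Lib.PermNetOrbit Cfsg.Agent.SporadicRecognition.SuzPhi
  Cfsg.Agent.SporadicRecognition.SuzOrder Cfsg.Agent.SuzThree.Basic Cfsg.Agent.SuzThree.CentA
  Cfsg.Agent.SuzThree.QZero Cfsg.Agent.KFacts.SuzCent Cfsg.Agent.KFacts.SuzR Cfsg.Agent.KFacts.SuzSheet
  Cfsg.Agent.KFacts.Codes Cfsg.Agent.KFacts.Orbits Cfsg.Agent.KFacts.SuzLarge Cfsg.Agent.KFacts.SuzOut
  Cfsg.Agent.LargeExtra.Model Cfsg.Agent.OddHalf.D9.Kill
open Cfsg.Agent.SporRec.SuzCl (ia ie)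

theorem z0_eq : z0 = ia := mul_one _

theorem Ce_eq : Ce z0 = C1 := by
  ext x
  rw [mem_Ce, mem_C1]

/-- the elements of `Q0` -/
theorem cases {y : Suz} (hy : y ∈ Q0) : y = 1 ∨ y = z0 ∨ (∃ h ∈ C1, h * C 1 * h⁻¹ = y) ∨
    ∃ h ∈ C1, h * C 3 * h⁻¹ = y := by
  rw [Q0_eq] at hy
  obtain ⟨c, hc, rfl⟩ := (mem_RG rels tri).1 hy
  have hf := stage rels tri gg_mem C1_comm conj_AA ch0.1
  have h1 : ((run (stf BB 6 L0) t0 (2 ^ 1) ||| run (stf BB 6 L0) t6 (2 ^ 3)) |||
      (1 ||| 2 ^ (2 ^ 6))).testBit c = true := by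
    rw [cover, Nat.testBit_two_pow_sub_one, decide_eq_true_eq]; exact hc
  rw [Nat.testBit_or, Nat.testBit_or, Nat.testBit_or, Bool.or_eq_true, Bool.or_eq_true,
    Bool.or_eq_true] at h1
  rcases h1 with (h1 | h1) | (h1 | h1)
  · right; right; left
    exact run_conj hf t0 1 c h1
  · right; right; right
    exact run_conj hf t6 3 c h1
  · left
    have : c = 0 := by
      have h2 : (1 : ℕ).testBit c = decide (0 = c) := by
        rw [show (1 : ℕ) = 2 ^ 0 by norm_num, Nat.testBit_two_pow]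
      rw [h2, decide_eq_true_eq] at h1
      exact h1.symm
    rw [this]
    exact cod_zero
  · right; left
    rw [Nat.testBit_two_pow, decide_eq_true_eq] at h1
    rw [← h1]
    exact cod_z (n := 6)

theorem sq1 : C 1 * C 1 = 1 := by
  have h1 : C 1 * C 1 = C (mulc BB 6 1 1) := by rw [C, C, cod_mul rels tri]
  rw [h1, show mulc BB 6 1 1 = 0 by decide +kernel]
  exact cod_zero

theorem sq3 : C 3 * C 3 = z0 := by
  have h1 : C 3 * C 3 = C (mulc BB 6 3 3) := by rw [C, C, cod_mul rels tri]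
  rw [h1, show mulc BB 6 3 3 = 64 by decide +kernel]
  exact C64

theorem conj_sq {G : Type*} [Group G] (h a : G) : h * a * h⁻¹ * (h * a * h⁻¹) = h * (a * a) * h⁻¹ := by group

theorem comm_ie : ie * z0 = z0 * ie := by
  have h1 : ie = el [.e] := (mul_one _).symm
  rw [h1]
  exact comm_of (x := .e) (by decide +kernel)

/-- **The facts on `Suz`.** -/
theorem qd : Label.QD z0 ie Q0 where
  ii := z_sq
  i1 := z_ne
  two s h2 h1 := by
    rw [z0_eq]
    rcases SporRec.SuzCl.two s h2 h1 with ⟨g, hg⟩ | ⟨g, hg⟩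
    · left
      exact ⟨g⁻¹, by rw [← hg]; group⟩
    · right
      exact ⟨g⁻¹, by rw [← hg]; group⟩
  perf := by
    have h1 : centralizer ({z0} : Set Suz) = Ce z0 := by
      ext x
      rw [mem_centralizer_singleton_iff, mem_Ce]
    have h2 := perf
    rw [h1] at h2
    have h3 := congrArg (map (Ce z0).subtype) h2
    rw [_root_.commutator_def, map_commutator, ← MonoidHom.range_eq_map, range_subtype] at h3
    exact h3
  wP := ⟨1, by
    rw [one_mul, inv_one, mul_one]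
    exact comm_ie⟩
  QP := by rw [Ce_eq]; exact Q0_le
  Qn g hg y hy := normal_R (by rw [← Ce_eq]; exact hg) hy
  Q2 := isPGroup_Q0
  Qmax N hN hn h2 := hR h2 (fun w hw => hN hw) (fun u hu w hw => hn u hu w hw)
  Qinv y hy h2 h1 := by
    rcases cases hy with rfl | rfl | ⟨h, -, rfl⟩ | ⟨h, -, rfl⟩
    · exact absurd rfl h1
    · exact ⟨1, by group⟩
    · refine ⟨n0⁻¹ * h⁻¹, ?_⟩
      have h3 : n0⁻¹ * C 1 * n0 = z0 := by
        rw [C1', ← n0_conj]; group
      calc n0⁻¹ * h⁻¹ * (h * C 1 * h⁻¹) * (n0⁻¹ * h⁻¹)⁻¹ = n0⁻¹ * C 1 * n0 := by group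
        _ = z0 := h3
    · exfalso
      rw [conj_sq, sq3] at h2
      apply z_ne
      calc z0 = h⁻¹ * (h * z0 * h⁻¹) * h := by group
        _ = 1 := by rw [h2]; group
  Qsq _ hy := R_sq hy
  Qex := ⟨C 3, C_mem 3, sq3⟩
  Qtr y hy y' hy' h2 h2' := by
    have key : ∀ y ∈ Q0, y * y = z0 → ∃ h ∈ C1, h * C 3 * h⁻¹ = y := by
      intro y hy h2
      rcases cases hy with rfl | rfl | ⟨h, -, rfl⟩ | h
      · exact absurd (by rw [← h2, one_mul]) z_ne
      · exact absurd (h2.symm.trans z_sq) z_ne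
      · rw [conj_sq, sq1] at h2
        exact absurd (by rw [← h2]; group) z_ne
      · exact h
    obtain ⟨h, hh, rfl⟩ := key y hy h2
    obtain ⟨h', hh', rfl⟩ := key y' hy' h2'
    refine ⟨h' * h⁻¹, ?_, by group⟩
    rw [Ce_eq]
    exact C1.mul_mem hh' (C1.inv_mem hh)

end Cfsg.Agent.OddHalf.D9.QDSuz

end

-- merged: Cfsg.Agent.OddHalf.D9.Suz.Triple
section

/-!
# D9, row `2.Suz`: the product of two lifts

`L → Suz` is a perfect double cover, `A = (F G)²` for lifts `F`, `G` of `f`, `g` (so `A` is a lift of `a`). `prod_eq`: for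
the conjugates `C`, `F'` of `A` above `c` and `f`, the product `C F'` is `c` times a conjugate of `A` (helper687's words).
`mem_comm`: the central element is in the derived subgroup of the preimage of `⟨a, b, c, f, g⟩ ≅ L₃(4)`.
-/

set_option autoImplicit false
set_option maxRecDepth 100000

namespace Cfsg.Agent.OddHalf.D9.SuzTriple

open Subgroup Cfsg Cfsg.Spor Cfsg.Agent.KFacts.MulDef Cfsg.Agent.KFacts.SuzLift.Sq Cfsg.Agent.KFacts.SuzLift.Two
  Cfsg.Agent.SuzThree.CentA Cfsg.Agent.SuzThree.Basic Cfsg.Agent.SuzThree.QZero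
  Cfsg.Agent.SporadicRecognition.SuzPhi Cfsg.Agent.SporadicRecognition.SuzOrder Cfsg.Agent.Lib.PermNet
open Cfsg.Agent.KFacts.SuzLFour (eq_of word_mem_L gen_mem_L)
open scoped commutatorElement

universe u

/-! ### Words -/

def wb : List Suz.Gen := [.a, .b, .a, .b]
def wc : List Suz.Gen := [.b, .c, .a, .b, .a, .b]
def wf : List Suz.Gen := [.b, .f, .a, .b, .a, .b]
def wt : List Suz.Gen := [.g, .b, .c, .a, .b, .f, .b, .c, .b, .a, .b]
def wu : List Suz.Gen := [.g, .b, .c, .a, .b, .f, .g, .c, .b, .a, .b]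
def wg : List Suz.Gen := [.d] ++ h1 ++ [.d] ++ h2 ++ [.e] ++ h3 ++ [.d, .e] ++ h3 ++ h2 ++ [.d] ++ h1 ++ [.d]

theorem eb : el (wb ++ [.a] ++ wb.reverse) = el [.b] := eq_of (by decide +kernel)
theorem ec : el (wc ++ [.a] ++ wc.reverse) = el [.c] := eq_of (by decide +kernel)
theorem ef : el (wf ++ [.a] ++ wf.reverse) = el [.f] := eq_of (by decide +kernel)
theorem et : el (wt ++ [.a] ++ wt.reverse) = el [.c, .f] := eq_of (by decide +kernel)
theorem eu : el ((wu ++ wg) ++ [.e, .f, .g] ++ (wu ++ wg).reverse) = el [.c, .f, .b] := eq_of (by decide +kernel)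
theorem efg : el [.f, .g, .f, .g] = el [.a] := eq_of (by decide +kernel)
theorem ecf : el [.c, .f] = el [.f, .c] := eq_of (by decide +kernel)
theorem eef : el [.e, .f] = el [.f, .e] := eq_of (by decide +kernel)
theorem eeg : el [.e, .g] = el [.g, .e] := eq_of (by decide +kernel)
theorem ecb : el [.c, .b, .c] = el [.b, .c, .b] := eq_of (by decide +kernel)
theorem efb : el [.f, .b, .f] = el [.b, .f, .b] := eq_of (by decide +kernel)
theorem eg : el ([.b, .g] ++ [.b] ++ [.g, .b]) = el [.g] := eq_of (by decide +kernel)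

theorem conj_el (w v : List Suz.Gen) : el (w ++ v ++ w.reverse) = el w * el v * (el w)⁻¹ := by
  rw [el_append, el_append, el_reverse]

variable {L : Type u} [Group L] {π : L →* Suz} {c : L}

/-- Two conjugates of a lift of `a` with the same image are equal. -/
theorem conj_eq (hD : Dbl π c) {A x y : L} (hA : π A = z0) (h : π (x * A * x⁻¹) = π (y * A * y⁻¹)) :
    x * A * x⁻¹ = y * A * y⁻¹ := by
  have h1 : A * (y⁻¹ * x) = (y⁻¹ * x) * A := by
    apply comm_lift hD hA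
    rw [map_mul, map_mul, map_mul, map_mul, map_inv, map_inv, hA] at h
    rw [map_mul, map_inv]
    calc (π y)⁻¹ * π x * z0 = (π y)⁻¹ * (π x * z0 * (π x)⁻¹) * π x := by group
      _ = (π y)⁻¹ * (π y * z0 * (π y)⁻¹) * π x := by rw [h]
      _ = z0 * ((π y)⁻¹ * π x) := by group
  calc x * A * x⁻¹ = y * ((y⁻¹ * x) * A) * x⁻¹ := by group
    _ = y * (A * (y⁻¹ * x)) * x⁻¹ := by rw [h1]
    _ = y * A * y⁻¹ := by group

/-- A lift of an involution of class 2A commutes with the lifts of the elements commuting with the involution. -/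
theorem comm_of (hD : Dbl π c) {X Y : L} {g : Suz} (hX : π X = g * z0 * g⁻¹) (h : π X * π Y = π Y * π X) :
    X * Y = Y * X := by
  obtain ⟨k, rfl⟩ := hD.surj g
  have h1 := comm_lift hD (x := k⁻¹ * X * k) (y := k⁻¹ * Y * k)
    (by rw [map_mul, map_mul, map_inv, hX]; group) (by
      rw [map_mul, map_mul, map_inv]
      have h2 : π X = π k * z0 * (π k)⁻¹ := hX
      have h3 : z0 = (π k)⁻¹ * π X * π k := by rw [h2]; group
      rw [h3]
      calc (π k)⁻¹ * π Y * π k * ((π k)⁻¹ * π X * π k) = (π k)⁻¹ * (π Y * π X) * π k := by group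
        _ = (π k)⁻¹ * (π X * π Y) * π k := by rw [h]
        _ = _ := by group)
  calc X * Y = k * ((k⁻¹ * X * k) * (k⁻¹ * Y * k)) * k⁻¹ := by group
    _ = k * ((k⁻¹ * Y * k) * (k⁻¹ * X * k)) * k⁻¹ := by rw [h1]
    _ = Y * X := by group

/-- The lifts used below. -/
structure Lifts (π : L →* Suz) (F G A B C F' Wb Wc Wf Wt Y E : L) : Prop where
  hF : π F = el [.f]
  hG : π G = el [.g]
  hE : π E = el [.e]
  hWb : π Wb = el wb
  hWc : π Wc = el wc
  hWf : π Wf = el wf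
  hWt : π Wt = el wt
  hY : π Y = el (wu ++ wg)
  hA : A = (F * G) * (F * G)
  hB : B = Wb * A * Wb⁻¹
  hC : C = Wc * A * Wc⁻¹
  hF' : F' = Wf * A * Wf⁻¹

theorem exists_lifts (hD : Dbl π c) : ∃ F G A B C F' Wb Wc Wf Wt Y E : L, Lifts π F G A B C F' Wb Wc Wf Wt Y E := by
  obtain ⟨F, hF⟩ := hD.surj (el [.f])
  obtain ⟨G, hG⟩ := hD.surj (el [.g])
  obtain ⟨E, hE⟩ := hD.surj (el [.e])
  obtain ⟨Wb, hWb⟩ := hD.surj (el wb)
  obtain ⟨Wc, hWc⟩ := hD.surj (el wc)
  obtain ⟨Wf, hWf⟩ := hD.surj (el wf)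
  obtain ⟨Wt, hWt⟩ := hD.surj (el wt)
  obtain ⟨Y, hY⟩ := hD.surj (el (wu ++ wg))
  exact ⟨F, G, _, _, _, _, Wb, Wc, Wf, Wt, Y, E, hF, hG, hE, hWb, hWc, hWf, hWt, hY, rfl, rfl, rfl, rfl⟩

variable {F G A B C F' Wb Wc Wf Wt Y E : L}

theorem pA (H : Lifts π F G A B C F' Wb Wc Wf Wt Y E) : π A = z0 := by
  rw [H.hA, map_mul, map_mul, H.hF, H.hG, ← el_append, ← el_append]
  exact efg

theorem pB (H : Lifts π F G A B C F' Wb Wc Wf Wt Y E) : π B = el [.b] := by
  rw [H.hB, map_mul, map_mul, map_inv, H.hWb, pA H, ← eb, conj_el]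

theorem pC (H : Lifts π F G A B C F' Wb Wc Wf Wt Y E) : π C = el [.c] := by
  rw [H.hC, map_mul, map_mul, map_inv, H.hWc, pA H, ← ec, conj_el]

theorem pF' (H : Lifts π F G A B C F' Wb Wc Wf Wt Y E) : π F' = el [.f] := by
  rw [H.hF', map_mul, map_mul, map_inv, H.hWf, pA H, ← ef, conj_el]

theorem sqA (hD : Dbl π c) (H : Lifts π F G A B C F' Wb Wc Wf Wt Y E) : A * A = 1 := sq_z0 hD (pA H)

theorem sq_conjA (hD : Dbl π c) (H : Lifts π F G A B C F' Wb Wc Wf Wt Y E) (k : L) :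
    k * A * k⁻¹ * (k * A * k⁻¹) = 1 := by
  calc k * A * k⁻¹ * (k * A * k⁻¹) = k * (A * A) * k⁻¹ := by group
    _ = 1 := by rw [sqA hD H]; group

/-- (iii), (iv) -/
theorem braid (hD : Dbl π c) {A k l X Y : L} (hA : π A = z0) (hX : X = k * A * k⁻¹) (hY : Y = l * A * l⁻¹)
    (hXX : X * X = 1) (hYY : Y * Y = 1) (h : π X * π Y * π X = π Y * π X * π Y) : X * Y * X = Y * X * Y := by
  have hXi : X⁻¹ = X := inv_eq_of_mul_eq_one_left hXX
  have hYi : Y⁻¹ = Y := inv_eq_of_mul_eq_one_left hYY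
  have h1 := conj_eq hD (A := A) (x := X * l) (y := Y * k) hA (by
    have e1 : X * l * A * (X * l)⁻¹ = X * Y * X := by
      calc X * l * A * (X * l)⁻¹ = X * (l * A * l⁻¹) * X⁻¹ := by group
        _ = X * Y * X := by rw [← hY, hXi]
    have e2 : Y * k * A * (Y * k)⁻¹ = Y * X * Y := by
      calc Y * k * A * (Y * k)⁻¹ = Y * (k * A * k⁻¹) * Y⁻¹ := by group
        _ = Y * X * Y := by rw [← hX, hYi]
    rw [e1, e2, map_mul, map_mul, map_mul, map_mul]
    exact h)
  calc X * Y * X = X * (l * A * l⁻¹) * X⁻¹ := by rw [← hY, hXi]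
    _ = X * l * A * (X * l)⁻¹ := by group
    _ = Y * k * A * (Y * k)⁻¹ := h1
    _ = Y * (k * A * k⁻¹) * Y⁻¹ := by group
    _ = Y * X * Y := by rw [← hX, hYi]

/-- **The product of the lifts `C`, `F'` is `c` times a conjugate of `A`.** -/
theorem prod_eq (hD : Dbl π c) (H : Lifts π F G A B C F' Wb Wc Wf Wt Y E) :
    C * F' = ((C * B)⁻¹ * Y) * A * ((C * B)⁻¹ * Y)⁻¹ * c := by
  have hBB : B * B = 1 := by rw [H.hB]; exact sq_conjA hD H _
  have hCC : C * C = 1 := by rw [H.hC]; exact sq_conjA hD H _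
  have hFF : F' * F' = 1 := by rw [H.hF']; exact sq_conjA hD H _
  have hBi : B⁻¹ = B := inv_eq_of_mul_eq_one_left hBB
  have hCi : C⁻¹ = C := inv_eq_of_mul_eq_one_left hCC
  have h1 : C * F' = F' * C := by
    refine comm_of hD (g := el wc) (by rw [pC H, ← ec, conj_el]) ?_
    rw [pC H, pF' H, ← el_append, ← el_append]
    exact ecf
  have h2 : C * B * C = B * C * B := braid hD (pA H) H.hC H.hB hCC hBB (by
    rw [pC H, pB H, ← el_append, ← el_append, ← el_append, ← el_append]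
    exact ecb)
  have h3 : F' * B * F' = B * F' * B := braid hD (pA H) H.hF' H.hB hFF hBB (by
    rw [pF' H, pB H, ← el_append, ← el_append, ← el_append, ← el_append]
    exact efb)
  have h4 : (C * F' * B) * (C * F' * B) = (C * B) * (C * F') * (C * B)⁻¹ := by
    rw [mul_inv_rev, hBi, hCi]
    calc (C * F' * B) * (C * F' * B) = C * F' * B * (C * F') * B := by group
      _ = C * F' * B * (F' * C) * B := by rw [← h1]
      _ = C * (F' * B * F') * C * B := by group
      _ = C * B * F' * (B * C * B) := by rw [h3]; group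
      _ = C * B * (F' * C) * B * C := by rw [← h2]; group
      _ = (C * B) * (C * F') * (B * C) := by rw [← h1]; group
  -- the square of `E F G`
  have hEF : F * E = E * F := by
    refine comm_of hD (g := el wf) (by rw [H.hF, ← ef, conj_el]) ?_
    rw [H.hF, H.hE, ← el_append, ← el_append]
    exact eef.symm
  have hEG : G * E = E * G := by
    refine comm_of hD (g := el ([.b, .g] ++ wb)) ?_ ?_
    · rw [H.hG, ← eg]
      have : el [.g, .b] = (el [.b, .g])⁻¹ := el_reverse [.b, .g]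
      rw [el_append, el_append, this, ← eb, conj_el, el_append]
      group
    · rw [H.hG, H.hE, ← el_append, ← el_append]
      exact eeg.symm
  have hEE : E * E = c := sq_e hD (by rw [H.hE]; exact mul_one _)
  have h5 : (E * F * G) * (E * F * G) = c * A := by
    calc (E * F * G) * (E * F * G) = E * F * (G * E) * F * G := by group
      _ = E * (F * E) * G * F * G := by rw [hEG]; group
      _ = (E * E) * ((F * G) * (F * G)) := by rw [hEF]; group
      _ = c * A := by rw [hEE, ← H.hA]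
  -- comparison
  have h6 : π (Y * (E * F * G) * Y⁻¹) = π (C * F' * B) := by
    rw [map_mul, map_mul, map_inv, map_mul, map_mul, map_mul, map_mul, H.hY, H.hE, H.hF, H.hG, pC H, pF' H, pB H,
      ← el_append, ← el_append, ← el_append, ← el_append]
    have := eu
    rw [conj_el] at this
    exact this
  have h7 := sq_lift hD h6
  have h8 : (C * B) * (C * F') * (C * B)⁻¹ = Y * (c * A) * Y⁻¹ := by
    rw [← h4, ← h7, ← h5]
    group
  have h9 : ∀ y, c * y = y * c := hD.cen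
  calc C * F' = (C * B)⁻¹ * ((C * B) * (C * F') * (C * B)⁻¹) * (C * B) := by group
    _ = (C * B)⁻¹ * (Y * (c * A) * Y⁻¹) * (C * B) := by rw [h8]
    _ = (C * B)⁻¹ * Y * (c * (A * Y⁻¹ * (C * B))) := by group
    _ = (C * B)⁻¹ * Y * (A * Y⁻¹ * (C * B) * c) := by rw [h9]
    _ = _ := by group

/-- The triple of labels. -/
theorem triple (hD : Dbl π c) : ∃ y g h : L, π y ∈ Q0 ∧ π (y * y) = z0 ∧
    (y * y) * (g * (y * y) * g⁻¹) = h * (y * y) * h⁻¹ * c := by
  obtain ⟨F, G, A, B, C, F', Wb, Wc, Wf, Wt, Y, E, H⟩ := exists_lifts hD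
  refine ⟨F * G, Wc⁻¹ * Wf, Wc⁻¹ * ((C * B)⁻¹ * Y), ?_, ?_, ?_⟩
  · rw [map_mul, H.hF, H.hG]
    exact Q0.mul_mem (q_mem .k4) (q_mem .k5)
  · rw [← H.hA]; exact pA H
  · rw [← H.hA]
    have h1 := prod_eq hD H
    have h9 : ∀ y, c * y = y * c := hD.cen
    calc A * (Wc⁻¹ * Wf * A * (Wc⁻¹ * Wf)⁻¹) = Wc⁻¹ * ((Wc * A * Wc⁻¹) * (Wf * A * Wf⁻¹)) * Wc := by group
      _ = Wc⁻¹ * (C * F') * Wc := by rw [← H.hC, ← H.hF']
      _ = Wc⁻¹ * ((C * B)⁻¹ * Y) * A * ((C * B)⁻¹ * Y)⁻¹ * (c * Wc) := by rw [h1]; group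
      _ = _ := by rw [h9]; group

/-- The central element in the derived subgroup of the preimage of `L₃(4)`. -/
theorem mem_comm (hD : Dbl π c) :
    c ∈ ⁅KFacts.SuzLFour.L.comap π, KFacts.SuzLFour.L.comap π⁆ := by
  obtain ⟨F, G, A, B, C, F', Wb, Wc, Wf, Wt, Y, E, H⟩ := exists_lifts hD
  set M := KFacts.SuzLFour.L.comap π with hM
  have hFM : F ∈ M := by
    change π F ∈ KFacts.SuzLFour.L
    rw [H.hF]; exact gen_mem_L (by decide)
  have hGM : G ∈ M := by
    change π G ∈ KFacts.SuzLFour.L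
    rw [H.hG]; exact gen_mem_L (by decide)
  have hFF : F * F = 1 := by
    refine sq_of_a hD (g := el wf) ?_
    rw [H.hF, ← ef, conj_el, KFacts.SuzY.z0_eq.symm]
  have hGG : G * G = 1 := by
    refine sq_of_a hD (g := el ([.b, .g] ++ wb)) ?_
    rw [H.hG, ← eg]
    have : el [.g, .b] = (el [.b, .g])⁻¹ := el_reverse [.b, .g]
    rw [el_append, el_append, this, ← eb, conj_el, el_append, ← KFacts.SuzY.z0_eq]
    group
  have hA : A ∈ ⁅M, M⁆ := by
    have h1 : A = ⁅F, G⁆ := by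
      rw [commutatorElement_def, inv_eq_of_mul_eq_one_left hFF, inv_eq_of_mul_eq_one_left hGG, H.hA]
      group
    rw [h1]
    exact commutator_mem_commutator hFM hGM
  have hconj : ∀ k ∈ M, k * A * k⁻¹ ∈ ⁅M, M⁆ := by
    intro k hk
    have h1 : ⁅k, A⁆ ∈ ⁅M, M⁆ := commutator_mem_commutator hk (commutator_le_self M hA)
    have h2 : k * A * k⁻¹ = ⁅k, A⁆ * A := by rw [commutatorElement_def]; group
    rw [h2]
    exact mul_mem h1 hA
  have hWc : Wc ∈ M := by
    change π Wc ∈ KFacts.SuzLFour.L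
    rw [H.hWc]; exact word_mem_L (by decide)
  have hWf : Wf ∈ M := by
    change π Wf ∈ KFacts.SuzLFour.L
    rw [H.hWf]; exact word_mem_L (by decide)
  have hWt : Wt ∈ M := by
    change π Wt ∈ KFacts.SuzLFour.L
    rw [H.hWt]; exact word_mem_L (by decide)
  have h1 := prod_eq hD H
  have hker : π c = 1 := (hD.ker c).2 (Or.inr rfl)
  have h2 : ((C * B)⁻¹ * Y) * A * ((C * B)⁻¹ * Y)⁻¹ = Wt * A * Wt⁻¹ := by
    apply conj_eq hD (pA H)
    have h3 := congrArg π h1
    rw [map_mul, pC H, pF' H, map_mul _ _ c, hker, mul_one, ← el_append] at h3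
    rw [← h3, map_mul, map_mul, map_inv, H.hWt, pA H, ← conj_el]
    exact et.symm
  rw [h2] at h1
  have h3 : c = (Wt * A * Wt⁻¹)⁻¹ * (C * F') := by rw [h1]; group
  have h4 : (Wt * A * Wt⁻¹)⁻¹ * (C * F') ∈ ⁅M, M⁆ := by
    rw [H.hC, H.hF']
    exact mul_mem (inv_mem (hconj _ hWt)) (mul_mem (hconj _ hWc) (hconj _ hWf))
  rw [h3]
  exact h4

end Cfsg.Agent.OddHalf.D9.SuzTriple

end

-- merged: Cfsg.Agent.OddHalf.D9.Suz.Row
section

/-!
# D9: the row `2.Suz`
-/

set_option autoImplicit false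

namespace Cfsg.Agent.OddHalf.D9.SuzRow

open Subgroup Cfsg Cfsg.Spor Cfsg.Agent.KFacts.MulDef Cfsg.Agent.KFacts.SuzLift.Two Cfsg.Agent.SuzThree.CentA
  Cfsg.Agent.Schreier.Basic
open Cfsg.Agent.SporRec.SuzCl (ia ie)
open scoped commutatorElement

universe u

/-- the Schreier property -/
theorem sch : Sch Suz := by
  intro C hC
  have hn := conj_range_normal Suz
  set I := (MulAut.conj : Suz →* MulAut Suz).range with hI
  rw [← hC, commutator_le]
  intro α _ β _
  rcases KFacts.SuzOut.out_two α β with h | h | h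
  · have h1 : ⁅α, β⁆ = α * (β * α⁻¹ * β⁻¹) := by rw [commutatorElement_def]; group
    rw [h1]
    exact I.mul_mem h (hn.conj_mem _ (I.inv_mem h) β)
  · have h1 : ⁅α, β⁆ = (α * β * α⁻¹) * β⁻¹ := by rw [commutatorElement_def]
    rw [h1]
    exact I.mul_mem (hn.conj_mem _ h α) (I.inv_mem h)
  · have h1 : ⁅α, β⁆ = (α * (α * (α⁻¹ * β) * α⁻¹) * α⁻¹) * (α * (α⁻¹ * β)⁻¹ * α⁻¹) := by
      rw [commutatorElement_def]; group
    rw [h1]
    exact I.mul_mem (hn.conj_mem _ (hn.conj_mem _ h α) α) (hn.conj_mem _ (I.inv_mem h) α)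

/-- **The facts on `2.Suz`.** -/
theorem kf {L : Type u} [Group L] {π : L →* Suz} {c : L} (hD : Dbl π c)
    (hcen : ∀ x : L, (∀ y, x * y = y * x) → x = 1 ∨ x = c) : KillRow.KF c := by
  have hw : ∀ k, π k = ie → k * k = c := fun k hk => sq_e hD hk
  have hi : ∀ k, π k = z0 → k * k = 1 := fun k hk => sq_z0 hD hk
  refine ⟨Or.inl (Label.pf_of QDSuz.qd hD.sq hD.ne hD.cen π hD.surj hD.ker hw hi (SuzTriple.triple hD)), ?_⟩
  refine OuterOf.outer_of hD.sq hD.ne hD.cen hcen hD.perf π hD.surj hD.ker (w := ie) hw ?_ ?_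
  · intro β h1 h2
    exact KFacts.SuzInvol.outer_invol h1 (by
      rintro ⟨s, hs⟩
      exact h2 s hs.symm)
  · refine Label.inn_of hD.sq hD.ne hD.cen π hD.surj hD.ker hi QDSuz.qd.two KFacts.SuzLFour.perfect' ?_
      ⟨_, map_comap_le _ _, SuzTriple.mem_comm hD⟩
    intro y hy
    have h1 := KFacts.SuzLFour.e0_comm y hy
    have h2 : KFacts.SuzLFour.e0 = ie := mul_one _
    rw [h2] at h1
    exact h1.symm

theorem facts : KillRow.Facts.{u} (fun X _ => IsoSuz X) := by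
  intro L _ _ hq h2 hP c hc1 hcc hcz
  obtain ⟨e⟩ := hP
  have hcc' : c ∈ center L := mem_center_iff.2 fun g => (hcz g).symm
  have hcen : ∀ x : L, (∀ y, x * y = y * x) → x = 1 ∨ x = c := by
    intro x hx
    obtain ⟨⟨z, hz⟩, hz1, hzu⟩ := Nat.card_eq_two_iff' (1 : ↥(center L)) |>.1 h2
    by_cases h1 : x = 1
    · exact Or.inl h1
    · right
      have h3 := hzu ⟨x, mem_center_iff.2 fun g => (hx g).symm⟩ (fun h => h1 (congrArg Subtype.val h))
      have h4 := hzu ⟨c, hcc'⟩ (fun h => hc1 (congrArg Subtype.val h))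
      exact congrArg Subtype.val (h3.trans h4.symm)
  refine kf (π := e.toMonoidHom.comp (QuotientGroup.mk' (center L))) ⟨⟨hc1, hcc, hcz, hq.1.commutator_eq_top⟩, ?_, ?_⟩ hcen
  · exact e.surjective.comp (QuotientGroup.mk'_surjective _)
  · intro x
    rw [MonoidHom.comp_apply]
    change e (QuotientGroup.mk' (center L) x) = 1 ↔ _
    rw [map_eq_one_iff e e.injective, QuotientGroup.mk'_apply, QuotientGroup.eq_one_iff]
    constructor
    · intro hx
      exact hcen x fun y => (mem_center_iff.1 hx y).symm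
    · rintro (rfl | rfl)
      · exact one_mem _
      · exact hcc'

/-- **D9, row `2.Suz`.** -/
theorem row : Cut.Row.{u} (fun K _ => Cut.Two (fun X _ => IsoSuz X) K) :=
  KillRow.row_two (fun X _ _ _ _ h => by
    obtain ⟨e⟩ := h
    exact Sch.of_equiv e.symm sch) facts

end Cfsg.Agent.OddHalf.D9.SuzRow

end

-- merged: Cfsg.Agent.OddHalf.D9.Final
section

/-!
# ODD half, node D9: assembly

The rows which are proved are plugged in here.
-/

set_option autoImplicit false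

namespace Cfsg.Agent.OddHalf.D9.Final

open Subgroup Cfsg Cfsg.Agent.OddHalf.Iface Cfsg.Agent.OddHalf.D9.Cut

universe u

/-- All rows of `Cut.Rows` except `2.Ru`. -/
theorem rows_of (ru : Row.{u} (fun K _ => Two (fun X _ => Spor.IsoRu X) K)) : Rows.{u} where
  l34 := L34.Row.row
  o82 := EEight.RowFinal.row
  g24 := G24.Row.row G24.OutL.autL_sg
  f42 := FFour.Main.f42
  m12 := TwoM12.row
  j2 := Plug.RowJ2.row
  suz := SuzRow.row
  ru := ru
  co1 := Co1.Final.row
  m22 := M22.RowTwo.row M22.PDataM22.exists_pdata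
  m22four := M22.RowFour.row M22.EDataM22.exists_edata

/-- **All rows of `Cut.Rows`**. -/
theorem rows : Rows.{u} := rows_of Ru.RowFin.row

/-- **D9** from the multiplier facts. -/
theorem d9_of (M : Mult.{u}) : Iface.D9.{u} := d9_of_rows M rows

/-- The multiplier facts. -/
theorem mult : Mult.{u} := MultAll.mult_of ⟨Plug.Ru.field⟩

/-- **Node D9.** -/
theorem d9 : Iface.D9.{u} := d9_of mult

end Cfsg.Agent.OddHalf.D9.Final

end
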